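import Groth.Agent.RDerLib.LeftExact

/-!
# Killing derived functors along an adjunction

For left exact functors `i`, `i'` commuting with adjunctions `fA ⊣ fs` and `gB ⊣ gs`, classes of `Rᵠi M` killed
by `gB` die in `Rᵠi (fs G)` for every `fA M ⟶ G` with enough vanishing on `G`.
-/

set_option autoImplicit false
set_option linter.unusedSectionVars false
set_option linter.style.haveILetI false
set_option backward.isDefEq.respectTransparency false
set_option backward.isDefEq.respectTransparency.types false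

universe w v

open CategoryTheory CategoryTheory.Limits

noncomputable section

namespace HTopCmp

open Groth.Agent.RDerLib

variable {A A' B B' : Type w} [Category.{v} A] [Category.{v} A'] [Category.{v} B] [Category.{v} B'] [Abelian A]
  [Abelian A'] [Abelian B] [Abelian B'] [EnoughInjectives A] [EnoughInjectives A'] [EnoughInjectives B']

/-- The inclusion in an injective object and its cokernel. -/
abbrev iSeq {C : Type w} [Category.{v} C] [Abelian C] [EnoughInjectives C] (M : C) : ShortComplex C :=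
  ShortComplex.mk (Injective.ι M) (cokernel.π (Injective.ι M)) (cokernel.condition _)

theorem iSeq_shortExact {C : Type w} [Category.{v} C] [Abelian C] [EnoughInjectives C] (M : C) :
    (iSeq M).ShortExact :=
  { exact := ShortComplex.exact_of_g_is_cokernel _ (cokernelIsCokernel _)
    mono_f := inferInstanceAs (Mono (Injective.ι M))
    epi_g := inferInstanceAs (Epi (cokernel.π (Injective.ι M))) }

variable (F : A ⥤ B) [F.Additive]

/-- The first connecting map, out of the underived functor. -/
def del [PreservesFiniteLimits F] {S : ShortComplex A} (hS : S.ShortExact) :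
    F.obj S.X₃ ⟶ (F.rightDerived 1).obj S.X₁ :=
  F.rightDerivedZeroIsoSelf.inv.app S.X₃ ≫ (derivedLES F).δ S hS 0 1 rfl

theorem g_del [PreservesFiniteLimits F] {S : ShortComplex A} (hS : S.ShortExact) :
    F.map S.g ≫ del F hS = 0 := by
  have h := F.rightDerivedZeroIsoSelf.inv.naturality S.g
  rw [del, ← Category.assoc, h, Category.assoc, (derivedLES F).comp_δ S hS 0 1 rfl, comp_zero]

theorem exact_del [PreservesFiniteLimits F] {S : ShortComplex A} (hS : S.ShortExact) :
    (ShortComplex.mk (F.map S.g) (del F hS) (g_del F hS)).Exact := by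
  refine (ShortComplex.exact_iff_of_iso ?_).1 ((derivedLES F).exact₃ S hS 0 1 rfl)
  exact ShortComplex.isoMk (F.rightDerivedZeroIsoSelf.app _) (F.rightDerivedZeroIsoSelf.app _) (Iso.refl _)
    (F.rightDerivedZeroIsoSelf.hom.naturality S.g).symm
    (by simp [del])

theorem epi_del [PreservesFiniteLimits F] {S : ShortComplex A} (hS : S.ShortExact)
    (h : IsZero ((F.rightDerived 1).obj S.X₂)) : Epi (del F hS) := by
  haveI : Epi ((derivedLES F).δ S hS 0 1 rfl) :=
    ((derivedLES F).exact₁ S hS 0 1 rfl).epi_f (h.eq_of_tgt _ _)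
  exact epi_comp _ _

theorem del_natural [PreservesFiniteLimits F] {S S' : ShortComplex A} (hS : S.ShortExact) (hS' : S'.ShortExact)
    (φ : S ⟶ S') : F.map φ.τ₃ ≫ del F hS' = del F hS ≫ (F.rightDerived 1).map φ.τ₁ := by
  have h := F.rightDerivedZeroIsoSelf.inv.naturality φ.τ₃
  have h2 := (derivedLES F).δ_natural hS hS' φ 0 1 rfl
  rw [del, del, ← Category.assoc, h, Category.assoc, h2, Category.assoc]

variable (i : A ⥤ B) (i' : A' ⥤ B') [i.Additive] [i'.Additive] [PreservesFiniteLimits i] [PreservesFiniteLimits i']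
  [i'.PreservesInjectiveObjects]
  {fA : A ⥤ A'} {fs : A' ⥤ A} (adjA : fA ⊣ fs) [fA.Additive] [fs.Additive] [fA.PreservesMonomorphisms]
  [fs.PreservesInjectiveObjects] [PreservesFiniteLimits fs]
  {gB : B ⥤ B'} {gs : B' ⥤ B} (adjB : gB ⊣ gs) [gB.Additive] [gs.Additive] [PreservesFiniteLimits gs]
  (c : i ⋙ gB ≅ fA ⋙ i')

/-- The comparison `i fs ⟶ gs i'`. -/
def mateApp (G : A') : i.obj (fs.obj G) ⟶ gs.obj (i'.obj G) :=
  adjB.homEquiv _ _ (c.hom.app (fs.obj G) ≫ i'.map (adjA.counit.app G))

theorem mateApp_natural {G G' : A'} (g : G ⟶ G') :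
    i.map (fs.map g) ≫ mateApp i i' adjA adjB c G' = mateApp i i' adjA adjB c G ≫ gs.map (i'.map g) := by
  rw [mateApp, mateApp, ← adjB.homEquiv_naturality_left, ← adjB.homEquiv_naturality_right]
  refine congrArg _ ?_
  have h1 := c.hom.naturality (fs.map g)
  have h2 := adjA.counit.naturality g
  simp only [Functor.comp_map, Functor.id_map] at h1 h2
  rw [reassoc_of% h1, ← Functor.map_comp, h2, Functor.map_comp, Category.assoc]

theorem map_transpose_mateApp {M : A} {G : A'} (φ : fA.obj M ⟶ G) :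
    i.map (adjA.homEquiv _ _ φ) ≫ mateApp i i' adjA adjB c G =
      adjB.homEquiv _ _ (c.hom.app M ≫ i'.map φ) := by
  rw [mateApp, ← adjB.homEquiv_naturality_left]
  refine congrArg _ ?_
  have h1 := c.hom.naturality (adjA.homEquiv _ _ φ)
  simp only [Functor.comp_map] at h1
  rw [reassoc_of% h1, ← Functor.map_comp]
  exact congrArg (fun t => c.hom.app M ≫ i'.map t) ((adjA.homEquiv_counit _ _ _).symm.trans
    ((adjA.homEquiv _ _).symm_apply_apply φ))

variable [∀ G, IsIso (mateApp i i' adjA adjB c G)] [i.Faithful]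

include adjA adjB c in
/-- The derived functors of `fs` vanish on objects acyclic for `i'` and `gs`. -/
theorem isZero_R_fs : ∀ (m : ℕ) (G : A'),
    (∀ j, 1 ≤ j → j ≤ m + 1 → IsZero ((i'.rightDerived j).obj G)) →
    (∀ j, 1 ≤ j → j ≤ m + 1 → IsZero ((gs.rightDerived j).obj (i'.obj G))) →
    IsZero ((fs.rightDerived (m + 1)).obj G) := by
  intro m
  induction m with
  | zero =>
    intro G h1 h2
    have hS := iSeq_shortExact G
    haveI : Epi (i'.map (iSeq G).g) :=
      (epi_map_g_iff _).1 (epi_map_g hS 0 (h1 1 le_rfl le_rfl))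
    haveI : Epi (gs.map (i'.map (iSeq G).g)) :=
      (epi_map_g_iff _).1 (epi_map_g (map_shortExact hS ‹_›) 0 (h2 1 le_rfl le_rfl))
    haveI : Epi (i.map (fs.map (iSeq G).g) ≫ mateApp i i' adjA adjB c (iSeq G).X₃) := by
      rw [mateApp_natural]; infer_instance
    haveI : Epi (i.map (fs.map (iSeq G).g)) :=
      (epi_comp_iff_of_isIso _ (mateApp i i' adjA adjB c (iSeq G).X₃)).1 ‹_›
    exact isZero_X₁_succ hS 0 (fs.isZero_rightDerived_obj_injective_succ 0 (Injective.under G))
      ((epi_map_g_iff _).2 (i.epi_of_epi_map ‹_›))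
  | succ m ih =>
    intro G h1 h2
    have hS := iSeq_shortExact G
    haveI : Epi (i'.map (iSeq G).g) :=
      (epi_map_g_iff _).1 (epi_map_g hS 0 (h1 1 le_rfl (by omega)))
    have hS' := map_shortExact hS ‹Epi (i'.map (iSeq G).g)›
    refine isZero_X₁_succ hS (m + 1) (fs.isZero_rightDerived_obj_injective_succ _ (Injective.under G))
      ⟨fun a b _ => (ih (iSeq G).X₃ (fun j hj hjm => ?_) fun j hj hjm => ?_).eq_of_src a b⟩
    · exact isZero_X₃ hS j (h1 (j + 1) (by omega) (by omega))
        (by obtain ⟨k, rfl⟩ : ∃ k, j = k + 1 := ⟨j - 1, by omega⟩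
            exact i'.isZero_rightDerived_obj_injective_succ k (Injective.under G))
    · haveI : Injective ((iSeq G).map i').X₂ :=
        i'.injective_obj_of_injective (inferInstanceAs (Injective (Injective.under G)))
      exact isZero_X₃ hS' j (h2 (j + 1) (by omega) (by omega))
        (by obtain ⟨k, rfl⟩ : ∃ k, j = k + 1 := ⟨j - 1, by omega⟩
            exact gs.isZero_rightDerived_obj_injective_succ k ((iSeq G).map i').X₂)

section Kill

include adjA adjB c

/-- Degree one. -/
theorem kill_one {M : A} {G : A'} (φ : fA.obj M ⟶ G)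
    (h2 : IsZero ((gs.rightDerived 1).obj (i'.obj G))) {K : B} (κ : K ⟶ (i.rightDerived 1).obj M)
    (hκ : gB.map κ = 0) : κ ≫ (i.rightDerived 1).map (adjA.homEquiv _ _ φ) = 0 := by
  have hM := iSeq_shortExact M
  have hG := iSeq_shortExact G
  haveI : Mono (fA.map (iSeq M).f) := inferInstanceAs (Mono (fA.map (Injective.ι M)))
  haveI : gB.IsLeftAdjoint := adjB.isLeftAdjoint
  haveI : fA.IsLeftAdjoint := adjA.isLeftAdjoint
  let φI : fA.obj (Injective.under M) ⟶ Injective.under G :=
    Injective.factorThru (φ ≫ Injective.ι G) (fA.map (Injective.ι M))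
  have hφI : fA.map (Injective.ι M) ≫ φI = φ ≫ Injective.ι G := Injective.comp_factorThru _ _
  have hexA : ((iSeq M).map fA).Exact :=
    hM.exact.map_of_epi_of_preservesCokernel fA hM.epi_g inferInstance
  haveI : Epi ((iSeq M).map fA).g := by
    haveI := hM.epi_g
    exact inferInstanceAs (Epi (fA.map (iSeq M).g))
  let φ' : fA.obj (iSeq M).X₃ ⟶ (iSeq G).X₃ := hexA.desc (φI ≫ (iSeq G).g) (by
    show fA.map (Injective.ι M) ≫ φI ≫ (iSeq G).g = 0
    rw [reassoc_of% hφI, cokernel.condition, comp_zero])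
  have hφ' : fA.map (iSeq M).g ≫ φ' = φI ≫ (iSeq G).g := hexA.g_desc _ _
  -- the image of the resolution of `G`
  let SL : ShortComplex A := ShortComplex.mk (fs.map (iSeq G).f) (cokernel.π _) (cokernel.condition _)
  haveI : Mono (fs.map (iSeq G).f) := by
    haveI : fs.IsRightAdjoint := adjA.isRightAdjoint
    haveI := hG.mono_f
    infer_instance
  have hL : SL.ShortExact :=
    { exact := ShortComplex.exact_of_g_is_cokernel _ (cokernelIsCokernel _)
      mono_f := inferInstanceAs (Mono (fs.map (iSeq G).f))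
      epi_g := inferInstanceAs (Epi (cokernel.π _)) }
  obtain ⟨hfex, -⟩ := ((Functor.preservesFiniteLimits_tfae fs).out 3 0 : PreservesFiniteLimits fs ↔
    ∀ S : ShortComplex A', S.ShortExact → (S.map fs).Exact ∧ Mono (fs.map S.f)).1 ‹_› _ hG
  let j : SL.X₃ ⟶ fs.obj (iSeq G).X₃ := cokernel.desc _ (fs.map (iSeq G).g) (by
    rw [← Functor.map_comp, (iSeq G).zero, Functor.map_zero])
  haveI : Mono j := ((iSeq G).map fs).exact_iff_mono_cokernel_desc.1 hfex
  let ψ : iSeq M ⟶ SL :=
    { τ₁ := adjA.homEquiv _ _ φ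
      τ₂ := adjA.homEquiv _ _ φI
      τ₃ := hM.exact.desc (adjA.homEquiv _ _ φI ≫ SL.g) (by
        haveI := hM.epi_g
        show Injective.ι M ≫ _ ≫ _ = 0
        rw [← Category.assoc, ← adjA.homEquiv_naturality_left, hφI, adjA.homEquiv_naturality_right, Category.assoc]
        exact (congrArg (_ ≫ ·) SL.zero).trans comp_zero)
      comm₁₂ := by
        show adjA.homEquiv _ _ φ ≫ fs.map (Injective.ι G) = Injective.ι M ≫ adjA.homEquiv _ _ φI
        rw [← adjA.homEquiv_naturality_right, ← adjA.homEquiv_naturality_left, hφI]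
      comm₂₃ := by
        haveI := hM.epi_g
        exact (hM.exact.g_desc _ _).symm }
  have hψj : ψ.τ₃ ≫ j = adjA.homEquiv _ _ φ' := by
    haveI := hM.epi_g
    rw [← cancel_epi (iSeq M).g, ← Category.assoc, ← ψ.comm₂₃, Category.assoc, ← adjA.homEquiv_naturality_left, hφ',
      adjA.homEquiv_naturality_right]
    exact congrArg (adjA.homEquiv _ _ φI ≫ ·) (cokernel.π_desc _ _ _)
  haveI : Injective (iSeq M).X₂ := inferInstanceAs (Injective (Injective.under M))
  haveI := epi_del i hM (i.isZero_rightDerived_obj_injective_succ 0 (iSeq M).X₂)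
  let x : pullback (del i hM) κ ⟶ i.obj SL.X₃ := pullback.fst _ _ ≫ i.map ψ.τ₃
  have hx : x ≫ del i hL = pullback.snd _ _ ≫ κ ≫ (i.rightDerived 1).map (adjA.homEquiv _ _ φ) := by
    rw [Category.assoc, del_natural i hM hL ψ, ← Category.assoc, pullback.condition, Category.assoc]
  let x' := x ≫ i.map j ≫ mateApp i i' adjA adjB c (iSeq G).X₃
  have hx' : x' ≫ gs.map (del i' hG) = 0 := by
    have e1 : x' = adjB.homEquiv _ _ (gB.map (pullback.fst (del i hM) κ) ≫ c.hom.app _ ≫ i'.map φ') := by
      simp only [x', x, Category.assoc]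
      rw [← Functor.map_comp_assoc i, hψj, map_transpose_mateApp, ← adjB.homEquiv_naturality_left]
    have e2 : gB.map (i.map (iSeq M).g) ≫ c.hom.app _ ≫ i'.map φ' ≫ del i' hG = 0 := by
      have h1 := c.hom.naturality (iSeq M).g
      simp only [Functor.comp_map] at h1
      rw [reassoc_of% h1, ← Functor.map_comp_assoc i', hφ', Functor.map_comp_assoc i', g_del, comp_zero, comp_zero]
    haveI : Epi (ShortComplex.mk (i.map (iSeq M).g) (del i hM) (g_del i hM)).g := inferInstanceAs (Epi (del i hM))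
    have hcok : ((ShortComplex.mk (i.map (iSeq M).g) (del i hM) (g_del i hM)).map gB).Exact :=
      (exact_del i hM).map_of_epi_of_preservesCokernel gB inferInstance inferInstance
    haveI : Epi ((ShortComplex.mk (i.map (iSeq M).g) (del i hM) (g_del i hM)).map gB).g :=
      inferInstanceAs (Epi (gB.map (del i hM)))
    let w := hcok.desc (c.hom.app _ ≫ i'.map φ' ≫ del i' hG) e2
    have hw : gB.map (del i hM) ≫ w = c.hom.app _ ≫ i'.map φ' ≫ del i' hG := hcok.g_desc _ _
    rw [e1, ← adjB.homEquiv_naturality_right, Category.assoc, Category.assoc, ← hw, ← Functor.map_comp_assoc,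
      pullback.condition, Functor.map_comp, hκ, comp_zero, zero_comp]
    exact (congrArg (adjB.homEquiv _ _) rfl).trans (by rw [Adjunction.homEquiv_unit]; simp)
  -- lift along `gs`
  let T₁ := ShortComplex.mk (i'.map (iSeq G).g) (del i' hG) (g_del i' hG)
  have hTex : T₁.Exact := exact_del i' hG
  let l := kernel.lift (del i' hG) (i'.map (iSeq G).g) (g_del i' hG)
  haveI : Epi l := T₁.exact_iff_epi_kernel_lift.1 hTex
  have hl : l ≫ kernel.ι (del i' hG) = i'.map (iSeq G).g := kernel.lift_ι _ _ _
  obtain ⟨hiex, -⟩ := ((Functor.preservesFiniteLimits_tfae i').out 3 0 : PreservesFiniteLimits i' ↔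
    ∀ S : ShortComplex A', S.ShortExact → (S.map i').Exact ∧ Mono (i'.map S.f)).1 ‹_› _ hG
  have hT₂ : (ShortComplex.mk (i'.map (iSeq G).f) l (by
      rw [← cancel_mono (kernel.ι (del i' hG)), Category.assoc, hl, ← Functor.map_comp, (iSeq G).zero,
        Functor.map_zero, zero_comp])).ShortExact := by
    refine { exact := ?_, mono_f := ?_, epi_g := inferInstanceAs (Epi l) }
    · let S₂ := ShortComplex.mk (i'.map (iSeq G).f) l (by
        rw [← cancel_mono (kernel.ι (del i' hG)), Category.assoc, hl, ← Functor.map_comp, (iSeq G).zero,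
          Functor.map_zero, zero_comp])
      let τ : S₂ ⟶ (iSeq G).map i' :=
        { τ₁ := 𝟙 _, τ₂ := 𝟙 _, τ₃ := kernel.ι (del i' hG)
          comm₁₂ := (Category.id_comp _).trans (Category.comp_id _).symm
          comm₂₃ := (Category.id_comp _).trans hl.symm }
      haveI : Epi τ.τ₁ := by dsimp [τ]; infer_instance
      haveI : IsIso τ.τ₂ := by dsimp [τ]; infer_instance
      haveI : Mono τ.τ₃ := by dsimp [τ]; infer_instance
      exact (ShortComplex.exact_iff_of_epi_of_isIso_of_mono τ).2 hiex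
    · haveI := hG.mono_f
      exact inferInstanceAs (Mono (i'.map (iSeq G).f))
  haveI : Epi (gs.map l) := (epi_map_g_iff _).1 (epi_map_g hT₂ 0 h2)
  let T₃ := (ShortComplex.mk (kernel.ι (del i' hG)) (del i' hG) (kernel.condition _)).map gs
  have hkex : T₃.Exact := T₃.exact_of_f_is_kernel (KernelFork.mapIsLimit _ (kernelIsKernel _) gs)
  haveI : Mono T₃.f := inferInstanceAs (Mono (gs.map (kernel.ι (del i' hG))))
  let x'' := hkex.lift x' hx'
  have hx'' : x'' ≫ gs.map (kernel.ι (del i' hG)) = x' := hkex.lift_f _ _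
  obtain ⟨P, e, he, y, hy⟩ := surjective_up_to_refinements_of_epi (gs.map l) x''
  let y' := y ≫ inv (mateApp i i' adjA adjB c (iSeq G).X₂)
  have hy' : y' ≫ i.map SL.g = e ≫ x := by
    rw [← cancel_mono (i.map j), ← cancel_mono (mateApp i i' adjA adjB c (iSeq G).X₃)]
    simp only [Category.assoc]
    rw [← Functor.map_comp_assoc i, show SL.g ≫ j = fs.map (iSeq G).g from cokernel.π_desc _ _ _, mateApp_natural,
      show x ≫ i.map j ≫ mateApp i i' adjA adjB c (iSeq G).X₃ = x' from rfl, ← hx'']
    simp only [y', Category.assoc, IsIso.inv_hom_id_assoc]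
    rw [← hl, Functor.map_comp, reassoc_of% hy]
  have h0 : e ≫ x ≫ del i hL = 0 := by
    rw [← Category.assoc, ← hy', Category.assoc, g_del, comp_zero]
  haveI := he
  rw [← cancel_epi (pullback.snd (del i hM) κ), comp_zero, ← hx, ← cancel_epi e, h0, comp_zero]

/-- The general degree. -/
theorem kill : ∀ (m : ℕ) {M : A} {G : A'} (φ : fA.obj M ⟶ G),
    (∀ j, 1 ≤ j → j ≤ m → IsZero ((i'.rightDerived j).obj G)) →
    (∀ j, 1 ≤ j → j ≤ m → IsZero ((fs.rightDerived j).obj G)) →
    (∀ j, 1 ≤ j → j ≤ m + 1 → IsZero ((gs.rightDerived j).obj (i'.obj G))) →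
    ∀ {K : B} (κ : K ⟶ (i.rightDerived (m + 1)).obj M), gB.map κ = 0 →
      κ ≫ (i.rightDerived (m + 1)).map (adjA.homEquiv _ _ φ) = 0 := by
  intro m
  induction m with
  | zero =>
    intro M G φ _ _ h3 K κ hκ
    exact kill_one i i' adjA adjB c φ (h3 1 le_rfl le_rfl) κ hκ
  | succ m ih =>
    intro M G φ h1 h2 h3 K κ hκ
    have hM := iSeq_shortExact M
    have hG := iSeq_shortExact G
    haveI : fA.IsLeftAdjoint := adjA.isLeftAdjoint
    let φI : fA.obj (Injective.under M) ⟶ Injective.under G :=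
      Injective.factorThru (φ ≫ Injective.ι G) (fA.map (Injective.ι M))
    have hφI : fA.map (Injective.ι M) ≫ φI = φ ≫ Injective.ι G := Injective.comp_factorThru _ _
    have hexA : ((iSeq M).map fA).Exact :=
      hM.exact.map_of_epi_of_preservesCokernel fA hM.epi_g inferInstance
    haveI : Epi ((iSeq M).map fA).g := by
      haveI := hM.epi_g
      exact inferInstanceAs (Epi (fA.map (iSeq M).g))
    let φ' : fA.obj (iSeq M).X₃ ⟶ (iSeq G).X₃ := hexA.desc (φI ≫ (iSeq G).g) (by
      show fA.map (Injective.ι M) ≫ φI ≫ (iSeq G).g = 0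
      rw [reassoc_of% hφI, cokernel.condition, comp_zero])
    have hφ' : fA.map (iSeq M).g ≫ φ' = φI ≫ (iSeq G).g := hexA.g_desc _ _
    haveI hfe : Epi (fs.map (iSeq G).g) := (epi_map_g_iff _).1 (epi_map_g hG 0 (h2 1 le_rfl (by omega)))
    have hfG := map_shortExact hG hfe
    let ψ : iSeq M ⟶ (iSeq G).map fs :=
      { τ₁ := adjA.homEquiv _ _ φ
        τ₂ := adjA.homEquiv _ _ φI
        τ₃ := adjA.homEquiv _ _ φ'
        comm₁₂ := by
          show adjA.homEquiv _ _ φ ≫ fs.map (iSeq G).f = (iSeq M).f ≫ adjA.homEquiv _ _ φI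
          rw [← adjA.homEquiv_naturality_right, ← adjA.homEquiv_naturality_left, hφI]
        comm₂₃ := by
          show adjA.homEquiv _ _ φI ≫ fs.map (iSeq G).g = (iSeq M).g ≫ adjA.homEquiv _ _ φ'
          rw [← adjA.homEquiv_naturality_right, ← adjA.homEquiv_naturality_left, hφ'] }
    let δM := (derivedLES i).δ (iSeq M) hM (m + 1) (m + 2) rfl
    haveI : Injective (iSeq M).X₂ := inferInstanceAs (Injective (Injective.under M))
    haveI : Mono δM := ((derivedLES i).exact₃ (iSeq M) hM (m + 1) (m + 2) rfl).mono_g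
      ((i.isZero_rightDerived_obj_injective_succ m (iSeq M).X₂).eq_of_src _ _)
    haveI : Epi δM := ((derivedLES i).exact₁ (iSeq M) hM (m + 1) (m + 2) rfl).epi_f
      ((i.isZero_rightDerived_obj_injective_succ (m + 1) (iSeq M).X₂).eq_of_tgt _ _)
    haveI : IsIso δM := isIso_of_mono_of_epi δM
    haveI : Epi (i'.map (iSeq G).g) := (epi_map_g_iff _).1 (epi_map_g hG 0 (h1 1 le_rfl (by omega)))
    have hiG := map_shortExact hG ‹Epi (i'.map (iSeq G).g)›
    haveI : Injective (iSeq G).X₂ := inferInstanceAs (Injective (Injective.under G))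
    haveI : Injective ((iSeq G).map i').X₂ := i'.injective_obj_of_injective (inferInstanceAs (Injective (iSeq G).X₂))
    have key := ih φ' (fun j hj hjm => isZero_X₃ hG j (h1 (j + 1) (by omega) (by omega))
        (by obtain ⟨k, rfl⟩ : ∃ k, j = k + 1 := ⟨j - 1, by omega⟩
            exact i'.isZero_rightDerived_obj_injective_succ k (iSeq G).X₂))
      (fun j hj hjm => isZero_X₃ hG j (h2 (j + 1) (by omega) (by omega))
        (by obtain ⟨k, rfl⟩ : ∃ k, j = k + 1 := ⟨j - 1, by omega⟩
            exact fs.isZero_rightDerived_obj_injective_succ k (iSeq G).X₂))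
      (fun j hj hjm => isZero_X₃ hiG j (h3 (j + 1) (by omega) (by omega))
        (by obtain ⟨k, rfl⟩ : ∃ k, j = k + 1 := ⟨j - 1, by omega⟩
            exact gs.isZero_rightDerived_obj_injective_succ k ((iSeq G).map i').X₂))
      (κ ≫ inv δM) (by rw [Functor.map_comp, hκ, zero_comp])
    have hn := (derivedLES i).δ_natural hM hfG ψ (m + 1) (m + 2) rfl
    calc κ ≫ (i.rightDerived (m + 2)).map (adjA.homEquiv _ _ φ)
        = (κ ≫ inv δM) ≫ δM ≫ (i.rightDerived (m + 2)).map ψ.τ₁ := by
          rw [Category.assoc, IsIso.inv_hom_id_assoc]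
      _ = 0 := by rw [← hn, ← Category.assoc, key, zero_comp]

end Kill

end HTopCmp

end
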