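import Groth.Agent.HTopCmpLib.Main
import Groth.Agent.EtFppfLib.Leray

/-!
# Consequences: unit, cohomology and proper direct images
-/

set_option autoImplicit false
set_option linter.unusedSectionVars false
set_option linter.style.haveILetI false
set_option backward.isDefEq.respectTransparency false
set_option backward.isDefEq.respectTransparency.types false
set_option maxHeartbeats 2000000
set_option synthInstance.maxHeartbeats 400000

universe u

open CategoryTheory CategoryTheory.Limits AlgebraicGeometry Opposite CategoryTheory.Abelian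
open Groth.Agent

noncomputable section

namespace HTopCmp

variable {K : Precoverage Scheme.{u}} (hK : Cmp K) [∀ S, BigSite.EpsCont Scheme.etalePrecoverage K S]
  (X : Scheme.{u}) [BigSite.AEtCont K X]

include hK in
/-- The adjunction between `piK` and restriction to the small site. -/
def piKAdj : piK hK X ⊣ BigSite.resEt K X :=
  (BigSite.piEtAdj Scheme.etalePrecoverage X).restrictFullyFaithful (iC := 𝟭 (EtCoh.Ab X)) (iD := ε K X)
    (L := piK hK X) (R := BigSite.resEt K X) (Functor.FullyFaithful.id _) (εFF K X) (Iso.refl _) (Iso.refl _)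

/-- The pullback from the small site is `piK`. -/
def pullIso : BigSite.piEtPull K X ≅ piK hK X :=
  Adjunction.leftAdjointUniq (BigSite.piEtAdj K X) (piKAdj hK X)

include hK in
theorem isIso_unit (F : EtCoh.Ab X) : IsIso ((BigSite.piEtAdj K X).unit.app F) := by
  let A := piKAdj hK X
  haveI : IsIso (BigSite.piEtAdj Scheme.etalePrecoverage X).unit := BigEtLib.isIso_piEtAdj_unit X
  have e : A.unit.app F = (BigSite.piEtAdj Scheme.etalePrecoverage X).unit.app F ≫
      (BigSite.resEt Scheme.etalePrecoverage X).map (𝟙 _) ≫ 𝟙 _ :=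
    Adjunction.map_restrictFullyFaithful_unit_app (iC := 𝟭 (EtCoh.Ab X)) _ _ _ _ _ F
  haveI : IsIso (A.unit.app F) := by
    rw [e]
    infer_instance
  have key := Adjunction.unit_leftAdjointUniq_hom_app (BigSite.piEtAdj K X) A F
  haveI : IsIso ((BigSite.piEtAdj K X).unit.app F ≫
      (BigSite.resEt K X).map ((Adjunction.leftAdjointUniq (BigSite.piEtAdj K X) A).hom.app F)) := by
    rw [key]; infer_instance
  exact IsIso.of_isIso_comp_right _
    ((BigSite.resEt K X).map ((Adjunction.leftAdjointUniq (BigSite.piEtAdj K X) A).hom.app F))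

include hK in
/-- `ε_* π⁻¹` is the pullback to the big étale site, and the higher direct images vanish. -/
theorem eps_piEtPull (F : EtCoh.Ab X) (hF : EtCoh.IsTorsion F) :
    Nonempty ((ε K X).obj ((BigSite.piEtPull K X).obj F) ≅ (BigSite.piEtPull Scheme.etalePrecoverage X).obj F) ∧
      ∀ i : ℕ, 0 < i → IsZero (((ε K X).rightDerived i).obj ((BigSite.piEtPull K X).obj F)) :=
  ⟨⟨(ε K X).mapIso ((pullIso hK X).app F) ≪≫ (piKε hK X).app F⟩,
    fun i hi => (isZero_R_piK hK i hi F hF).of_iso (((ε K X).rightDerived i).mapIso ((pullIso hK X).app F))⟩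

include hK in
theorem isZero_RresEt (F : EtCoh.Ab X) (hF : EtCoh.IsTorsion F) (q : ℕ) (hq : 0 < q) :
    IsZero ((BigSite.RresEt K X q).obj ((BigSite.piEtPull K X).obj F)) := by
  haveI := BigEtLib.preservesHomology_resEt X Scheme.etalePrecoverage
  haveI : (BigSite.resEt Scheme.etalePrecoverage X).Additive := inferInstance
  obtain ⟨e⟩ := BigEtLib.nonempty_rightDerived_baseChange (ε K X) (BigSite.resEt K X) (𝟭 (BigSite.Ab K X))
    (BigSite.resEt Scheme.etalePrecoverage X)
    (NatIso.ofComponents (fun _ => Iso.refl _) fun _ => (Category.comp_id _).trans (Category.id_comp _).symm)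
    ((BigSite.piEtPull K X).obj F) q
  exact IsZero.of_iso ((BigSite.resEt Scheme.etalePrecoverage X).map_isZero ((eps_piEtPull hK X F hF).2 q hq)) e.symm

include hK in
/-- Cohomology of a torsion sheaf on the finer big site. -/
theorem nonempty_H (F : EtCoh.Ab X) (hF : EtCoh.IsTorsion F) (q : ℕ) :
    Nonempty (EtCoh.H X F q ≃+ BigSite.H K X ((BigSite.piEtPull K X).obj F) q) := by
  haveI : PreservesLimitsOfSize.{0, 0} (BigSite.resEt K X) := (BigSite.piEtAdj K X).rightAdjoint_preservesLimits
  haveI : PreservesFiniteLimits (BigSite.resEt K X) := PreservesLimitsOfSize.preservesFiniteLimits _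
  haveI := BigEtLib.preservesInjective_resEt X K
  let R := BigSite.resEt K X
  let G := (BigSite.piEtPull K X).obj F
  let eB := fun (M : BigSite.Ab K X) => BigEtLib.homEquivTop (QuotSh.J K X) (Over.mkIdTerminal (X := X)) M
  let eS := fun (M : EtCoh.Ab X) => BigEtLib.homEquivTop X.smallEtaleTopology (EtCore.topIsTerminal X) M
  obtain ⟨e⟩ := EtFppfLib.nonempty_ext_equiv_of_acyclic R (fun M => (eB M).trans (eS (R.obj M)).symm) (fun {M M'} g x => by
    apply (eS (R.obj M')).injective
    refine ((eS _).apply_symm_apply _).trans ?_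
    refine (BigEtLib.homEquivTop_comp _ _ g x).trans ?_
    refine Eq.trans ?_ (BigEtLib.homEquivTop_comp X.smallEtaleTopology (EtCore.topIsTerminal X) (R.map g)
      (((eB M).trans (eS (R.obj M)).symm) x)).symm
    exact (congrArg ((R.map g).hom.app (op (EtCoh.top X))) ((eS _).apply_symm_apply (eB M x))).symm) G
    (fun n => isZero_RresEt hK X F hF (n + 1) n.succ_pos) q
  haveI := isIso_unit hK X F
  exact ⟨((EtCoh.HF X q).mapIso (asIso ((BigSite.piEtAdj K X).unit.app F))).addCommGroupIsoToAddEquiv.trans e.symm⟩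

include hK in
/-- Proper base change on the finer big sites. -/
theorem nonempty_Rpush {T S : Scheme.{u}} (f : T ⟶ S) [IsProper f] [BigSite.AEtCont K T] [BigSite.AEtCont K S]
    (F : EtCoh.Ab T) (hF : EtCoh.IsTorsion F) (i : ℕ) :
    Nonempty ((BigSite.piEtPull K S).obj ((EtCoh.Rpush f i).obj F) ≅
      (BigSite.RpushBig K f i).obj ((BigSite.piEtPull K T).obj F)) := by
  let G := (piK hK T).obj F
  let I : InjectiveResolution G := injectiveResolution G
  let I' := EtFppfLib.mapResAcyclic (ε K T) I (fun q => isZero_R_piK hK (q + 1) q.succ_pos F hF)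
  let fs := BigSite.pushBig K f AddCommGrpCat.{u + 1}
  let gs := BigSite.pushBig Scheme.etalePrecoverage f AddCommGrpCat.{u + 1}
  obtain ⟨e⟩ := EtPBCProperLib.nonempty_piEtPull_Rpush f F hF i
  let D := (fs.mapHomologicalComplex (ComplexShape.up ℕ)).obj I.cocomplex
  let C := ((ε K S).mapHomologicalComplex (ComplexShape.up ℕ)).obj D
  let e₁ : (gs.rightDerived i).obj ((ε K T).obj G) ≅ C.homology i :=
    I'.isoRightDerivedObj gs i ≪≫ (HomologicalComplex.homologyFunctor _ _ i).mapIso
      (HomologicalComplex.Hom.isoOfComponents (fun _ => Iso.refl _) (fun a b _ =>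
        (Category.id_comp _).trans (Category.comp_id _).symm))
  haveI : (εPull K S).Additive := (BigSite.epsAdj Scheme.etalePrecoverage K S).left_adjoint_additive
  let c := asIso (BigSite.epsAdj Scheme.etalePrecoverage K S).counit
  let e₂ : (εPull K S).obj (C.homology i) ≅ (fs.rightDerived i).obj G :=
    ((C.sc i).mapHomologyIso (εPull K S)).symm ≪≫ (HomologicalComplex.homologyFunctor _ _ i).mapIso
      (HomologicalComplex.Hom.isoOfComponents (C₁ := ((εPull K S).mapHomologicalComplex _).obj C) (C₂ := D)
        (fun n => c.app (D.X n)) (fun a b _ => (c.hom.naturality (D.d a b)).symm)) ≪≫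
      (I.isoRightDerivedObj fs i).symm
  exact ⟨(pullIso hK S).app _ ≪≫ (c.app _).symm ≪≫
    (εPull K S).mapIso ((piKε hK S).app _ ≪≫ e ≪≫ (BigSite.RpushBig Scheme.etalePrecoverage f i).mapIso
      ((piKε hK T).app F).symm ≪≫ e₁) ≪≫ e₂ ≪≫ (fs.rightDerived i).mapIso ((pullIso hK T).app F).symm⟩

end HTopCmp

end
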