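import Groth.Agent.HTopCmpLib.Instances
import Groth.Agent.BlowRegLib.BiSSAb
import Groth.Agent.EpsLib.Cartan
import Groth.Agent.BigEtLib.Compare
import Groth.Prelude.Def_EtCore
import Mathlib.Algebra.Category.Grp.AB
import Mathlib.Algebra.Category.Grp.EnoughInjectives

/-!
# Descent along proper surjective morphisms for torsion sheaves, through the ph topology
-/

set_option autoImplicit false
set_option linter.style.haveILetI false
set_option linter.unusedSectionVars false
set_option backward.isDefEq.respectTransparency false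
set_option backward.isDefEq.respectTransparency.types false
set_option maxHeartbeats 1000000
universe u

open CategoryTheory CategoryTheory.Limits AlgebraicGeometry Opposite CategoryTheory.Abelian Groth.Agent.EpsLib
open Groth.Agent

namespace HTopCmp.Desc

noncomputable section

variable {Y : Scheme.{u}}

instance epsCont (S : Scheme.{u}) :
    BigSite.EpsCont Scheme.etalePrecoverage (HTop.phPrecoverage : Precoverage Scheme.{u}) S := epsCont_ph S

instance aEtCont (S : Scheme.{u}) : BigSite.AEtCont (HTop.phPrecoverage : Precoverage Scheme.{u}) S :=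
  BigSite.aEtCont_of_le BlowRegLib.HTopGerms.etale_le_ph S

/-- The ph topology over `Y`. -/
abbrev JP (Y : Scheme.{u}) : GrothendieckTopology (Over Y) := QuotSh.J HTop.phPrecoverage Y

/-- Abelian ph sheaves. -/
abbrev AbP (Y : Scheme.{u}) := BigSite.Ab HTop.phPrecoverage Y

/-- Sections over an object. -/
abbrev secW (W : Over Y) : AbP Y ⥤ AddCommGrpCat.{u + 1} :=
  (sheafSections (JP Y) AddCommGrpCat.{u + 1}).obj (op W)

instance additive_secW (W : Over Y) : (secW W).Additive := { }

/-- The final object. -/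
abbrev topY (Y : Scheme.{u}) : Over Y := Over.mk (𝟙 Y)

/-- A proper surjective morphism is a ph covering. -/
theorem isPhCover_proper {X S : Scheme.{u}} (f : X ⟶ S) [IsProper f] [Surjective f] :
    HTop.IsPhCover (PreZeroHypercover.singleton.{0} f) :=
  PhLib.isPhCover_of_dom _ (fun _ => inferInstanceAs (LocallyOfFiniteType f)) fun U =>
    ⟨pullback U.1.ι f, pullback.fst U.1.ι f, inferInstance, inferInstance, fun _ =>
      ⟨⊤, trivial, PUnit.unit, (⊤ : (pullback U.1.ι f).Opens).ι ≫ pullback.snd U.1.ι f, by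
        show (_ ≫ pullback.snd U.1.ι f) ≫ f = (_ ≫ pullback.fst U.1.ι f) ≫ U.1.ι
        rw [Category.assoc, Category.assoc, pullback.condition]⟩⟩

section Compare

variable {T : Scheme.{u}} (g : T ⟶ Y)

/-- An injective resolution computes étale cohomology of the localisations. -/
theorem nonempty_homology_iso (F : EtCoh.Ab Y) (hF : EtCoh.IsTorsion F) (I : InjectiveResolution ((piK cmp_ph Y).obj F))
    (q : ℕ) :
    Nonempty ((((secW ((Over.map g).obj (Over.mk (𝟙 T)))).mapHomologicalComplex _).obj I.cocomplex).homology q ≅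
      AddCommGrpCat.of (EtCoh.H T ((EtCoh.pull g).obj F) q)) := by
  obtain ⟨i⟩ := nonempty_pullBig_piK cmp_ph g F
  let R : AbP Y ⥤ AbP T := BigSite.pullBig HTop.phPrecoverage g AddCommGrpCat.{u + 1}
  haveI : R.Additive := { }
  haveI : R.PreservesHomology := BigEtLib.preservesHomology_pullBig g HTop.phPrecoverage
  haveI : R.PreservesInjectiveObjects := BigEtLib.preservesInjective_pullBig g HTop.phPrecoverage
  let K : CochainComplex AddCommGrpCat.{u + 1} ℕ :=
    ((secW ((Over.map g).obj (Over.mk (𝟙 T)))).mapHomologicalComplex _).obj I.cocomplex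
  let eB := fun (M : AbP T) => BigEtLib.homEquivTop (JP T) (Over.mkIdTerminal (X := T)) M
  obtain ⟨e⟩ := CohLib.nonempty_homology_iso_ext_of_injective (LocSuppLib.mapRes R I) K
    (X := (constantSheaf (JP T) AddCommGrpCat.{u + 1}).obj (AddCommGrpCat.of (ULift.{u + 1} ℤ)))
    (fun m => (eB (R.obj (I.cocomplex.X m))).symm) (fun m x => by
      apply (eB (R.obj (I.cocomplex.X (m + 1)))).injective
      refine ((eB _).apply_symm_apply _).trans ?_
      refine Eq.trans ?_ (BigEtLib.homEquivTop_comp (JP T) (Over.mkIdTerminal (X := T))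
        (R.map (I.cocomplex.d m (m + 1))) ((eB (R.obj (I.cocomplex.X m))).symm x)).symm
      exact (congrArg ((R.map (I.cocomplex.d m (m + 1))).hom.app (op (Over.mk (𝟙 T))))
        ((eB _).apply_symm_apply x)).symm) q
  have hT : EtCoh.IsTorsion ((EtCoh.pull g).obj F) := CdCurveLib.isTorsion_pull_map g hF
  obtain ⟨e'⟩ := nonempty_H cmp_ph T _ hT q
  exact ⟨e ≪≫ (extFunctorObj _ q).mapIso (i ≪≫ ((pullIso cmp_ph T).app _).symm) ≪≫
    (AddEquiv.toAddCommGrpIso (X := AddCommGrpCat.of (EtCoh.H T ((EtCoh.pull g).obj F) q))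
      (Y := AddCommGrpCat.of (BigSite.H HTop.phPrecoverage T
        ((BigSite.piEtPull HTop.phPrecoverage T).obj ((EtCoh.pull g).obj F)) q)) e').symm⟩

/-- An injective resolution computes étale cohomology of the base. -/
theorem nonempty_homology_iso_top (F : EtCoh.Ab Y) (hF : EtCoh.IsTorsion F) (I : InjectiveResolution ((piK cmp_ph Y).obj F))
    (q : ℕ) :
    Nonempty ((((secW (topY Y)).mapHomologicalComplex _).obj I.cocomplex).homology q ≅
      AddCommGrpCat.of (EtCoh.H Y F q)) := by
  let eB := fun (M : AbP Y) => BigEtLib.homEquivTop (JP Y) (Over.mkIdTerminal (X := Y)) M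
  obtain ⟨e⟩ := CohLib.nonempty_homology_iso_ext_of_injective I
    (((secW (topY Y)).mapHomologicalComplex _).obj I.cocomplex)
    (X := (constantSheaf (JP Y) AddCommGrpCat.{u + 1}).obj (AddCommGrpCat.of (ULift.{u + 1} ℤ)))
    (fun m => (eB (I.cocomplex.X m)).symm) (fun m x => by
      apply (eB (I.cocomplex.X (m + 1))).injective
      refine ((eB _).apply_symm_apply _).trans ?_
      refine Eq.trans ?_ (BigEtLib.homEquivTop_comp (JP Y) (Over.mkIdTerminal (X := Y))
        (I.cocomplex.d m (m + 1)) ((eB (I.cocomplex.X m)).symm x)).symm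
      exact (congrArg ((I.cocomplex.d m (m + 1)).hom.app (op (Over.mk (𝟙 Y))))
        ((eB _).apply_symm_apply x)).symm) q
  obtain ⟨e'⟩ := nonempty_H cmp_ph Y F hF q
  exact ⟨e ≪≫ (extFunctorObj _ q).mapIso ((pullIso cmp_ph Y).app F).symm ≪≫
    (AddEquiv.toAddCommGrpIso (X := AddCommGrpCat.of (EtCoh.H Y F q))
      (Y := AddCommGrpCat.of (BigSite.H HTop.phPrecoverage Y ((BigSite.piEtPull HTop.phPrecoverage Y).obj F) q)) e').symm⟩

end Compare

section Nerve

variable {X : Scheme.{u}} (f : X ⟶ Y)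

/-- The fibre powers. -/
abbrev P (n : ℕ) : Scheme.{u} := widePullback Y (fun _ : Fin (n + 1) => X) (fun _ => f)

/-- Their structure morphisms. -/
abbrev base (n : ℕ) : P f n ⟶ Y := WidePullback.base (fun _ : Fin (n + 1) => f)

/-- The covering morphism. -/
def π0 : Over.mk f ⟶ topY Y := Over.homMk f (Category.comp_id f)

/-- The nerve of the covering. -/
def nerve : Nerve (π0 f) where
  obj n := (Over.map (base f n)).obj (Over.mk (𝟙 (P f n)))
  pr n k := Over.homMk (WidePullback.π (fun _ : Fin (n + 1) => f) k)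
    ((WidePullback.π_arrow (fun _ : Fin (n + 1) => f) k).trans (Category.id_comp _).symm)
  w n k := Over.mkIdTerminal.hom_ext _ _
  lift n T t _ := Over.homMk (WidePullback.lift T.hom (fun k => (t k).left) fun k => Over.w (t k))
    ((congrArg (_ ≫ ·) (Category.id_comp _)).trans (WidePullback.lift_base _ _ _ _))
  fac n T t _ k := Over.OverMorphism.ext (WidePullback.lift_π _ _ _ _ k)
  ext n T a b h := Over.OverMorphism.ext (WidePullback.hom_ext _ _ _
    (fun k => congrArg (fun c => c.left) (h k))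
    (((congrArg (a.left ≫ ·) (Category.id_comp _).symm).trans (Over.w a)).trans
      ((congrArg (b.left ≫ ·) (Category.id_comp _).symm).trans (Over.w b)).symm))

/-- The covering. -/
theorem mem [IsProper f] [Surjective f] :
    Sieve.ofArrows (fun _ : PUnit.{u + 1} => Over.mk f) (fun _ => π0 f) ∈ JP Y (topY Y) := by
  haveI : IsProper (π0 f).left := ‹IsProper f›
  haveI : Surjective (π0 f).left := ‹Surjective f›
  rw [GrothendieckTopology.mem_over_iff]
  refine GrothendieckTopology.superset_covering _ ?_ (Precoverage.generate_mem_toGrothendieck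
    ((HTop.presieve₀_mem_phPrecoverage_iff _).2 (isPhCover_proper (π0 f).left)))
  rw [Sieve.generate_le_iff]
  rintro _ _ ⟨⟨⟩⟩
  exact (Sieve.overEquiv_iff _ _).2 ⟨Over.mk f, Over.homMk (𝟙 _) ((Category.id_comp _).trans (Over.w (π0 f)).symm),
    π0 f, ⟨⟨⟩⟩, Over.OverMorphism.ext (Category.id_comp _)⟩

/-- The Čech complex of a presheaf. -/
def cechObj (M : (Over Y)ᵒᵖ ⥤ AddCommGrpCat.{u + 1}) : CochainComplex AddCommGrpCat.{u + 1} ℕ :=
  CochainComplex.of (fun n => M.obj (op ((nerve f).obj n)))
    (fun n => AddCommGrpCat.ofHom (cechD (nerve f) M n))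
    (fun n => AddCommGrpCat.ext fun x => cechD_cechD (nerve f) M n x)

theorem cechObj_d (M : (Over Y)ᵒᵖ ⥤ AddCommGrpCat.{u + 1}) (n : ℕ) :
    (cechObj f M).d n (n + 1) = AddCommGrpCat.ofHom (cechD (nerve f) M n) := by
  simp [cechObj, CochainComplex.of, CochainComplex.of.d]

/-- The Čech complex. -/
def cech : ((Over Y)ᵒᵖ ⥤ AddCommGrpCat.{u + 1}) ⥤ CochainComplex AddCommGrpCat.{u + 1} ℕ where
  obj M := cechObj f M
  map φ :=
    { f := fun n => φ.app _
      comm' := fun i j hij => by
        obtain rfl : i + 1 = j := hij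
        rw [cechObj_d, cechObj_d]
        exact AddCommGrpCat.ext fun x => (cechD_natural (nerve f) φ i x).symm }

instance additive_cech : (cech f).Additive where
  map_add := by intros; ext n : 1; rfl

theorem cech_d (M : (Over Y)ᵒᵖ ⥤ AddCommGrpCat.{u + 1}) (n : ℕ) :
    ((cech f).obj M).d n (n + 1) = AddCommGrpCat.ofHom (cechD (nerve f) M n) :=
  cechObj_d f M n

/-- The Čech complex, indexed by integers. -/
abbrev extCo : AbP Y ⥤ CochainComplex AddCommGrpCat.{u + 1} ℤ :=
  (sheafToPresheaf _ _ ⋙ cech f) ⋙ ComplexShape.embeddingUpNat.extendFunctor AddCommGrpCat.{u + 1}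

/-- The augmentation. -/
def aug₀ (M : AbP Y) : (secW (topY Y)).obj M ⟶ ((cech f).obj M.obj).X 0 :=
  M.obj.map ((nerve f).pr 0 0 ≫ π0 f).op

theorem aug₀_d (M : AbP Y) : aug₀ f M ≫ ((cech f).obj M.obj).d 0 1 = 0 := by
  refine AddCommGrpCat.ext fun x => ?_
  change ((cech f).obj M.obj).d 0 1 (M.obj.map ((nerve f).pr 0 0 ≫ π0 f).op x) = 0
  rw [cech_d f M.obj 0]
  change cechD (nerve f) M.obj 0 _ = 0
  rw [cechD_apply, Fin.sum_univ_two]
  have : ∀ i, M.obj.map ((nerve f).face 0 i).op (M.obj.map ((nerve f).pr 0 0 ≫ π0 f).op x) =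
      M.obj.map ((nerve f).face 0 0 ≫ (nerve f).pr 0 0 ≫ π0 f).op x := fun i => by
    rw [← Functor.map_comp_apply, ← op_comp]
    exact congrArg (fun t => M.obj.map (Quiver.Hom.op t) x) (Over.mkIdTerminal.hom_ext _ _)
  rw [this 0, this 1]
  simp

/-- The augmented Čech complex. -/
def augC (M : AbP Y) :
    (CochainComplex.single₀ AddCommGrpCat.{u + 1}).obj ((secW (topY Y)).obj M) ⟶ (cech f).obj M.obj :=
  (CochainComplex.fromSingle₀Equiv _ _).symm ⟨aug₀ f M, aug₀_d f M⟩

theorem augC_f_zero (M : AbP Y) : (augC f M).f 0 = aug₀ f M :=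
  CochainComplex.fromSingle₀Equiv_symm_apply_f_zero _ _

variable [IsProper f] [Surjective f]

theorem mono_aug₀ (M : AbP Y) : Mono (aug₀ f M) := by
  rw [AddCommGrpCat.mono_iff_injective]
  intro a b hab
  refine sheaf_sect_ext M _ (mem f) a b ?_
  rintro P g ⟨_, h, _, ⟨⟨⟩⟩, rfl⟩
  let l := (nerve f).lift 0 (fun _ : Fin 1 => h) fun _ => rfl
  have hl : l ≫ ((nerve f).pr 0 0 ≫ π0 f) = h ≫ π0 f := by
    rw [← Category.assoc, (nerve f).fac]
  have := congrArg (M.obj.map l.op) hab
  change M.obj.map l.op (M.obj.map ((nerve f).pr 0 0 ≫ π0 f).op a) =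
    M.obj.map l.op (M.obj.map ((nerve f).pr 0 0 ≫ π0 f).op b) at this
  rw [← Functor.map_comp_apply, ← Functor.map_comp_apply, ← op_comp, hl] at this
  exact this

theorem exact_aug₀ (M : AbP Y) :
    (ShortComplex.mk (aug₀ f M) (((cech f).obj M.obj).d 0 1) (aug₀_d f M)).Exact := by
  rw [ShortComplex.ab_exact_iff]
  intro x hx
  change ((cech f).obj M.obj).d 0 1 x = 0 at hx
  rw [cech_d f M.obj 0] at hx
  change cechD (nerve f) M.obj 0 x = 0 at hx
  rw [cechD_apply, Fin.sum_univ_two] at hx
  simp only [Fin.val_zero, pow_zero, one_smul, Fin.val_one, pow_one, neg_smul, ← sub_eq_add_neg, sub_eq_zero] at hx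
  let l₀ : Over.mk f ⟶ (nerve f).obj 0 := (nerve f).lift 0 (fun _ : Fin 1 => 𝟙 _) fun _ => rfl
  obtain ⟨s, hs⟩ := sheaf_glue_single M (π0 f) (mem f) (M.obj.map l₀.op x) fun P a b hab => by
    let c : P ⟶ (nerve f).obj 1 := (nerve f).lift 1 ![b, a] fun k => Over.mkIdTerminal.hom_ext _ _
    have h0 : c ≫ (nerve f).face 0 0 = a ≫ l₀ := (nerve f).ext 0 _ _ fun k => by
      obtain rfl : k = 0 := Fin.eq_zero k
      rw [Category.assoc, Nerve.face_pr, (nerve f).fac, Category.assoc, (nerve f).fac, Category.comp_id]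
      rfl
    have h1 : c ≫ (nerve f).face 0 1 = b ≫ l₀ := (nerve f).ext 0 _ _ fun k => by
      obtain rfl : k = 0 := Fin.eq_zero k
      rw [Category.assoc, Nerve.face_pr, (nerve f).fac, Category.assoc, (nerve f).fac, Category.comp_id]
      rfl
    have := congrArg (M.obj.map c.op) hx
    rw [← Functor.map_comp_apply, ← Functor.map_comp_apply, ← op_comp, ← op_comp, h0, h1] at this
    rw [← Functor.map_comp_apply, ← Functor.map_comp_apply, ← op_comp, ← op_comp]
    exact this
  refine ⟨s, ?_⟩
  change M.obj.map ((nerve f).pr 0 0 ≫ π0 f).op s = x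
  rw [op_comp, Functor.map_comp_apply, hs, ← Functor.map_comp_apply, ← op_comp,
    show (nerve f).pr 0 0 ≫ l₀ = 𝟙 _ from (nerve f).ext 0 _ _ fun k => by
      obtain rfl : k = 0 := Fin.eq_zero k
      rw [Category.assoc, (nerve f).fac, Category.comp_id, Category.id_comp]]
  exact ConcreteCategory.congr_hom (M.obj.map_id _) x

theorem quasiIso_augC (M : AbP Y) [Injective M] : QuasiIso (augC f M) := ⟨fun n => by
  cases n with
  | zero =>
    haveI := mono_aug₀ f M
    rw [quasiIsoAt_iff' _ 0 0 1 (by simp) (by simp)]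
    refine (ShortComplex.quasiIso_iff_of_zeros _ ?_ ?_ ?_).2 ⟨?_, ?_⟩
    · show ((CochainComplex.single₀ AddCommGrpCat.{u + 1}).obj ((secW (topY Y)).obj M)).d 0 0 = 0
      simp
    · show ((CochainComplex.single₀ AddCommGrpCat.{u + 1}).obj ((secW (topY Y)).obj M)).d 0 1 = 0
      simp
    · show ((cech f).obj M.obj).d 0 0 = 0
      exact HomologicalComplex.shape _ _ _ (by simp)
    · refine ShortComplex.exact_of_iso (ShortComplex.isoMk (Iso.refl _) (Iso.refl _) (Iso.refl _) ?_ ?_) (exact_aug₀ f M)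
      · exact ((Category.id_comp _).trans (augC_f_zero f M)).trans (Category.comp_id _).symm
      · exact (Category.id_comp _).trans (Category.comp_id _).symm
    · simp only [HomologicalComplex.shortComplexFunctor'_map_τ₂, augC_f_zero]
      infer_instance
  | succ n =>
    rw [quasiIsoAt_iff_exactAt']
    · exact CochainComplex.exactAt_succ_single_obj _ _
    · rw [HomologicalComplex.exactAt_iff' _ n (n + 1) (n + 2) (by simp) (by simp), ShortComplex.ab_exact_iff]
      intro x hx
      change ((cech f).obj M.obj).d (n + 1) (n + 2) x = 0 at hx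
      rw [cech_d f M.obj (n + 1)] at hx
      obtain ⟨y, hy⟩ := hExact_injective_sheaf M (nerve f) n x hx
      refine ⟨y, ?_⟩
      change ((cech f).obj M.obj).d n (n + 1) y = x
      rw [cech_d f M.obj n]
      exact hy⟩

/-- The augmentation in degree zero. -/
def η : secW (topY Y) ⟶ extCo f ⋙ HomologicalComplex.eval _ (ComplexShape.up ℤ) 0 where
  app M := aug₀ f M ≫ (((cech f).obj M.obj).extendXIso ComplexShape.embeddingUpNat (i := 0) (i' := (0 : ℤ)) rfl).inv
  naturality M M' φ := by
    refine ((Category.assoc _ _ _).symm.trans (congrArg (· ≫ _)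
      ((φ.hom.naturality ((nerve f).pr 0 0 ≫ π0 f).op).symm))).trans ?_
    change _ = (aug₀ f M ≫ _) ≫ (HomologicalComplex.extendMap ((cech f).map φ.hom) ComplexShape.embeddingUpNat).f 0
    rw [HomologicalComplex.extendMap_f _ ComplexShape.embeddingUpNat (i := 0) (i' := (0 : ℤ)) rfl]
    simp only [Category.assoc, Iso.inv_hom_id_assoc]
    rfl

theorem η_d (M : AbP Y) (j : ℤ) : (η f).app M ≫ ((extCo f).obj M).d 0 j = 0 := by
  by_cases hj : (ComplexShape.up ℤ).Rel 0 j
  · obtain rfl : (1 : ℤ) = j := by simpa using hj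
    change (aug₀ f M ≫ _) ≫ (((cech f).obj M.obj).extend ComplexShape.embeddingUpNat).d 0 1 = 0
    rw [HomologicalComplex.extend_d_eq _ ComplexShape.embeddingUpNat (i := 0) (j := 1) (i' := (0 : ℤ)) (j' := (1 : ℤ)) rfl rfl]
    simp only [Category.assoc, Iso.inv_hom_id_assoc]
    rw [reassoc_of% (aug₀_d f M), zero_comp]
  · rw [HomologicalComplex.shape _ _ _ hj, comp_zero]

/-- The augmentation of one row. -/
abbrev rowAug (M : AbP Y) :
    (HomologicalComplex.single AddCommGrpCat.{u + 1} (ComplexShape.up ℤ) 0).obj ((secW (topY Y)).obj M) ⟶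
      (extCo f).obj M :=
  HomologicalComplex.mkHomFromSingle ((η f).app M) fun j _ => η_d f M j

theorem quasiIso_rowAug (M : AbP Y) [Injective M] : QuasiIso (rowAug f M) := by
  haveI := quasiIso_augC f M
  have : rowAug f M = (HomologicalComplex.extendSingleIso ComplexShape.embeddingUpNat ((secW (topY Y)).obj M)
      (i := 0) (i' := (0 : ℤ)) rfl).inv ≫
      HomologicalComplex.extendMap (augC f M) ComplexShape.embeddingUpNat := by
    refine HomologicalComplex.from_single_hom_ext ?_
    rw [HomologicalComplex.mkHomFromSingle_f, HomologicalComplex.comp_f,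
      HomologicalComplex.extendMap_f _ ComplexShape.embeddingUpNat (i := 0) (i' := (0 : ℤ)) rfl, augC_f_zero]
    simp [η, HomologicalComplex.extendSingleIso]
  rw [this]
  infer_instance

variable (G : CochainComplex (AbP Y) ℤ)

/-- The bicomplex. -/
abbrev bi : SpSeqLib.BiTotal.Bi AddCommGrpCat.{u + 1} :=
  HomologicalComplex₂.flip (((extCo f).mapHomologicalComplex (ComplexShape.up ℤ)).obj G)

/-- The sections over the base. -/
abbrev secG : CochainComplex AddCommGrpCat.{u + 1} ℤ :=
  ((secW (topY Y)).mapHomologicalComplex (ComplexShape.up ℤ)).obj G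

/-- The augmentation of the bicomplex, in degree zero. -/
def η₀ : secG G ⟶ (bi f G).X 0 where
  f q := (η f).app (G.X q)
  comm' q q' _ := ((η f).naturality (G.d q q')).symm

/-- The augmentation of the bicomplex. -/
def ε : (HomologicalComplex.single (CochainComplex AddCommGrpCat.{u + 1} ℤ) (ComplexShape.up ℤ) 0).obj (secG G) ⟶
    bi f G :=
  HomologicalComplex.mkHomFromSingle (η₀ f G) fun j _ => by
    ext q : 1
    exact η_d f (G.X q) j

/-- The columns. -/
def colIso (p : ℕ) :
    (bi f G).X (p : ℤ) ≅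
      ((secW ((nerve f).obj p)).mapHomologicalComplex (ComplexShape.up ℤ)).obj G :=
  HomologicalComplex.Hom.isoOfComponents
    (fun q => ((cech f).obj (G.X q).obj).extendXIso ComplexShape.embeddingUpNat (i := p) rfl) fun q q' _ => by
      change _ ≫ (G.d q q').hom.app (op ((nerve f).obj p)) =
        (HomologicalComplex.extendMap ((cech f).map (G.d q q').hom) ComplexShape.embeddingUpNat).f (p : ℤ) ≫ _
      rw [HomologicalComplex.extendMap_f _ ComplexShape.embeddingUpNat (i := p) (i' := (p : ℤ)) rfl]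
      simp only [Category.assoc, Iso.inv_hom_id, Category.comp_id]
      rfl

theorem isZero_bi [G.IsStrictlyGE 0] (p q : ℤ) (h : p < 0 ∨ q < 0) : IsZero (((bi f G).X p).X q) := by
  change IsZero (((extCo f).obj (G.X q)).X p)
  rcases h with h | h
  · exact HomologicalComplex.isZero_extend_X _ _ p fun k hk => by
      change (k : ℤ) = p at hk
      omega
  · exact Functor.map_isZero (extCo f ⋙ HomologicalComplex.eval _ (ComplexShape.up ℤ) p)
      (G.isZero_of_isStrictlyGE 0 q h)

theorem mono_ε : Mono (ε f G) := by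
  haveI : ∀ m, Mono ((ε f G).f m) := fun m => by
    by_cases hm : m = 0
    · subst hm
      haveI : Mono (η₀ f G) := by
        haveI : ∀ q, Mono ((η₀ f G).f q) := fun q => by
          haveI := mono_aug₀ f (G.X q)
          change Mono ((η f).app (G.X q))
          dsimp only [η]
          infer_instance
        exact HomologicalComplex.mono_of_mono_f _ inferInstance
      rw [ε, HomologicalComplex.mkHomFromSingle_f]
      infer_instance
    · exact ⟨fun _ _ _ => (HomologicalComplex.isZero_single_obj_X _ _ _ _ hm).eq_of_tgt _ _⟩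
  exact HomologicalComplex.mono_of_mono_f _ inferInstance

theorem quasiIso_row (q : ℤ) [Injective (G.X q)] :
    QuasiIso (((HomologicalComplex.eval AddCommGrpCat.{u + 1} (ComplexShape.up ℤ) q).mapHomologicalComplex
      (ComplexShape.up ℤ)).map (ε f G)) := by
  haveI := quasiIso_rowAug f (G.X q)
  let e := (HomologicalComplex.singleMapHomologicalComplex (HomologicalComplex.eval AddCommGrpCat.{u + 1} (ComplexShape.up ℤ) q)
    (ComplexShape.up ℤ) 0).app (secG G)
  have : e.inv ≫ ((HomologicalComplex.eval AddCommGrpCat.{u + 1} (ComplexShape.up ℤ) q).mapHomologicalComplex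
      (ComplexShape.up ℤ)).map (ε f G) = rowAug f (G.X q) := by
    refine HomologicalComplex.from_single_hom_ext ?_
    rw [HomologicalComplex.comp_f, HomologicalComplex.mkHomFromSingle_f]
    change e.inv.f 0 ≫ ((ε f G).f 0).f q = _
    rw [ε, HomologicalComplex.mkHomFromSingle_f, HomologicalComplex.comp_f]
    simp [e, η₀, HomologicalComplex.singleMapHomologicalComplex]
    rfl
  haveI : QuasiIso (e.inv ≫ ((HomologicalComplex.eval AddCommGrpCat.{u + 1} (ComplexShape.up ℤ) q).mapHomologicalComplex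
      (ComplexShape.up ℤ)).map (ε f G)) := this ▸ ‹QuasiIso (rowAug f (G.X q))›
  exact quasiIso_of_comp_left e.inv _

end Nerve

/-- Homology of the sections of an extended resolution. -/
theorem nonempty_extend_homology (W : Over Y) {A : AbP Y} (I : InjectiveResolution A) (q : ℕ) :
    Nonempty ((((secW W).mapHomologicalComplex (ComplexShape.up ℤ)).obj I.cochainComplex).homology (q : ℤ) ≅
      (((secW W).mapHomologicalComplex _).obj I.cocomplex).homology q) :=
  ⟨(HomologicalComplex.homologyFunctor _ _ (q : ℤ)).mapIso (SpSeqLib.mapExtendNatIso (secW W) I.cocomplex) ≪≫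
    (((secW W).mapHomologicalComplex _).obj I.cocomplex).extendHomologyIso ComplexShape.embeddingUpNat
      (j := q) (j' := (q : ℤ)) rfl⟩

/-- **The descent spectral sequence.** -/
theorem main {X : Scheme.{u}} (f : X ⟶ Y) [IsProper f] [Surjective f] (F : EtCoh.Ab Y) (hF : EtCoh.IsTorsion F) :
    ∃ (E : CohomologicalSpectralSequence AddCommGrpCat.{u + 1} 1)
      (a : SpSeq.Abutment E (fun n : ℤ =>
        if 0 ≤ n then AddCommGrpCat.of (EtCoh.H Y F n.toNat) else AddCommGrpCat.of PUnit.{u + 2})),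
      (∀ n, a.IsFinite n) ∧ SpSeq.IsBounded E ∧
      ∀ p q : ℤ, Nonempty ((E.page 1 le_rfl).X (p, q) ≅
        (if 0 ≤ p ∧ 0 ≤ q then
          AddCommGrpCat.of (EtCoh.H (widePullback Y (fun _ : Fin (p.toNat + 1) => X) (fun _ => f))
            ((EtCoh.pull (WidePullback.base (fun _ : Fin (p.toNat + 1) => f) :
              widePullback Y (fun _ : Fin (p.toNat + 1) => X) (fun _ => f) ⟶ Y)).obj F) q.toNat)
         else AddCommGrpCat.of PUnit.{u + 2})) := by
  let I : InjectiveResolution ((piK cmp_ph Y).obj F) := injectiveResolution _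
  let G := I.cochainComplex
  haveI := mono_ε f G
  have hPU : IsZero (AddCommGrpCat.of PUnit.{u + 2}) := AddCommGrpCat.isZero_of_subsingleton _
  haveI : AB4OfSize.{0} AddCommGrpCat.{u + 1} := AB4OfSize_shrink.{0, u + 1} _
  obtain ⟨E, ab, h1, h2, h3, h4⟩ := BlowRegLib.BiSSAb.exists_spectralSequence.{u + 1, u + 2} (C := AddCommGrpCat.{u + 1}) (bi f G) (isZero_bi f G) (secG G) (ε f G)
    (fun q => quasiIso_row f G q)
    (fun n : ℤ => if 0 ≤ n then AddCommGrpCat.of (EtCoh.H Y F n.toNat) else AddCommGrpCat.of PUnit.{u + 2})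
    (fun n => by
      obtain ⟨e₁⟩ := nonempty_extend_homology (topY Y) I n
      obtain ⟨e₂⟩ := nonempty_homology_iso_top F hF I n
      exact ⟨eqToIso (by simp) ≪≫ (e₁ ≪≫ e₂).symm⟩)
    (fun n hn => by
      simp only [if_neg (not_le.mpr hn)]
      exact hPU)
  refine ⟨E, ab, h1, h2, fun p q => ?_⟩
  by_cases hpq : 0 ≤ p ∧ 0 ≤ q
  · rw [if_pos hpq]
    obtain ⟨a, rfl⟩ := Int.eq_ofNat_of_zero_le hpq.1
    obtain ⟨b, rfl⟩ := Int.eq_ofNat_of_zero_le hpq.2
    obtain ⟨e₀⟩ := h3 a b
    obtain ⟨e₁⟩ := nonempty_extend_homology ((nerve f).obj a) I b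
    obtain ⟨e₂⟩ := nonempty_homology_iso (base f a) F hF I b
    exact ⟨e₀ ≪≫ (HomologicalComplex.homologyFunctor _ _ (b : ℤ)).mapIso (colIso f G a) ≪≫ e₁ ≪≫ e₂⟩
  · rw [if_neg hpq]
    exact ⟨(h4 p q (by omega)).iso hPU⟩

end

end HTopCmp.Desc
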