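import Groth.Agent.EtPBCProperLib.Effacement
import Groth.Agent.EtShLib.TorsionCoh
import Groth.Agent.EtShLib.SectColim

/-!
# Effacement of torsion sheaves by the torsion part of injective sheaves
-/

set_option autoImplicit false
set_option linter.unusedSectionVars false
set_option linter.style.haveILetI false
set_option backward.isDefEq.respectTransparency false
set_option backward.isDefEq.respectTransparency.types false
set_option maxHeartbeats 1000000
set_option synthInstance.maxHeartbeats 400000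

universe u

open CategoryTheory CategoryTheory.Limits CategoryTheory.Abelian AlgebraicGeometry Opposite
open Groth.Agent Groth.Agent.EtShLib DescSecLib EtSliceLib EtAcycLib

attribute [local instance] CategoryTheory.Abelian.hasFiniteBiproducts

noncomputable section

namespace HTopCmp

open EtPBCProperLib (nTor)

variable {X : Scheme.{u}} (I : EtCoh.Ab X)

theorem ι_factorial {i j : ℕ} (h : i ≤ j) :
    kernel.ι (Nat.factorial i • 𝟙 I) ≫ (Nat.factorial j • 𝟙 I) = 0 := by
  obtain ⟨r, hr⟩ := Nat.factorial_dvd_factorial h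
  rw [hr, mul_comm, mul_smul, Preadditive.comp_nsmul, kernel.condition, smul_zero]

/-- The `n!`-torsion subsheaves. -/
def tD : ULift.{u} ℕ ⥤ EtCoh.Ab X where
  obj j := nTor I (Nat.factorial j.down)
  map {i j} h := kernel.lift _ (kernel.ι _) (ι_factorial I (ULift.down_le.2 (leOfHom h)))
  map_id i := by rw [← cancel_mono (kernel.ι (Nat.factorial i.down • 𝟙 I))]; simp
  map_comp {i j k} f g := by rw [← cancel_mono (kernel.ι (Nat.factorial k.down • 𝟙 I))]; simp

theorem tD_map_ι {i j : ULift.{u} ℕ} (h : i ⟶ j) : (tD I).map h ≫ kernel.ι _ = kernel.ι _ :=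
  kernel.lift_ι _ _ _

theorem isFiltered_uliftNat : IsFiltered (ULift.{u} ℕ) :=
  haveI : Nonempty (ULift.{u} ℕ) := ⟨⟨0⟩⟩
  haveI : IsDirectedOrder (ULift.{u} ℕ) :=
    ⟨fun a b => ⟨⟨max a.down b.down⟩, ULift.down_le.1 (le_max_left _ _), ULift.down_le.1 (le_max_right _ _)⟩⟩
  inferInstance

/-- The torsion part. -/
abbrev tors : EtCoh.Ab X := colimit (tD I)

/-- The cocone of inclusions. -/
def torsCocone : Cocone (tD I) where
  pt := I
  ι :=
    { app := fun j => kernel.ι _
      naturality := fun i j h => (tD_map_ι I h).trans (Category.comp_id _).symm }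

/-- The map to the sheaf. -/
def torsι : tors I ⟶ I :=
  colimit.desc _ (torsCocone I)

theorem isTorsion_tors : EtCoh.IsTorsion (tors I) := by
  haveI := isFiltered_uliftNat.{u}
  intro U s x
  obtain ⟨Ω, _, _, ξ, v₀, hv₀⟩ := exists_geometric (U := U) x
  obtain ⟨V, g, v, hV, hv⟩ := exists_affine_below' ξ U v₀
  haveI : CompactSpace V.left := inferInstance
  haveI : QuasiSeparatedSpace V.left := inferInstance
  obtain ⟨j, t, ht⟩ := exists_stage_lift (colimit.isColimit (tD I)) V ((tors I).obj.map g.op s)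
  refine ⟨V, g, ⟨v.pt, ?_⟩, isOfFinAddOrder_iff_nsmul_eq_zero.2 ⟨Nat.factorial j.down, Nat.factorial_pos _, ?_⟩⟩
  · rw [← hv₀, ← hv]
    rfl
  · rw [← ht]
    refine (map_nsmul ((colimit.ι (tD I) j).hom.app (op V)).hom _ _).symm.trans ?_
    have h := congrArg (fun a => a.hom.app (op V) t) (EtPBCProperLib.nsmul_nTor I (Nat.factorial j.down))
    have h2 : Nat.factorial j.down • t = 0 :=
      (ConsEffaceLib.app_nsmul_id (nTor I (Nat.factorial j.down)) (Nat.factorial j.down) V t).symm.trans h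
    exact (congrArg ((colimit.ι (tD I) j).hom.app (op V)) h2).trans (map_zero _)

/-- Sections corepresented by the free sheaf. -/
def freeRep (W : X.Etale) : SectRep (free W) W where
  e F :=
    { toFun := fun a => a.hom.app (op W) (gen W)
      invFun := fun s => desc W s
      left_inv := fun a => free_hom_ext W (desc_gen W _)
      right_inv := fun s => desc_gen W s
      map_add' := fun a b => rfl }
  nat s f := rfl

theorem isZero_Rpush_tors {Y : Scheme.{u}} (f : X ⟶ Y) [QuasiCompact f] [QuasiSeparated f] [Injective I] (q : ℕ)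
    (hq : 0 < q) : IsZero ((EtCoh.Rpush f q).obj (tors I)) := by
  haveI := isFiltered_uliftNat.{u}
  obtain ⟨j, rfl⟩ : ∃ j, q = j + 1 := ⟨q - 1, by omega⟩
  refine isZero_Rpush_of_killed f j _ fun W y w => ?_
  obtain ⟨Ω, _, _, ξ, v₀, hv₀⟩ := exists_geometric (U := W) w
  obtain ⟨V, g, v, hV, hv⟩ := exists_affine_below' ξ W v₀
  refine ⟨V, g, ⟨v.pt, by rw [← hv₀, ← hv]; rfl⟩, ?_⟩
  let eq := AsSmall.equiv.{u, u, u + 1} (C := ULift.{u} ℕ)
  let D' : AsSmall.{u + 1} (ULift.{u} ℕ) ⥤ EtCoh.Ab X := eq.inverse ⋙ tD I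
  let φ := (colimit.isColimit D').coconePointUniqueUpToIso
    (IsColimit.whiskerEquivalence (colimit.isColimit (tD I)) eq.symm)
  let x := (Ext.mk₀ (freeMap ((EtCoh.bc f).map g))).comp y (zero_add (j + 1))
  obtain ⟨i, z, hz⟩ := (extComm_sectRep (freeRep ((EtCoh.bc f).obj V)) (bc_mem_qcqsObj f (V := V)) (j + 1)
    (ULift.{u} ℕ) D').1 (x.comp (Ext.mk₀ φ.inv) (add_zero _))
  haveI := EtPBCProperLib.subsingleton_ext_free_nTor I (Nat.factorial_pos (eq.inverse.obj i).down)
    ((EtCoh.bc f).obj V) (j + 1) (Nat.succ_pos j)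
  have hz0 : z = 0 := Subsingleton.elim (α := Ext.{u + 1} (free ((EtCoh.bc f).obj V))
    (nTor I (Nat.factorial (eq.inverse.obj i).down)) (j + 1)) _ _
  rw [hz0, Ext.zero_comp] at hz
  show x = 0
  have h2 : (x.comp (Ext.mk₀ φ.inv) (add_zero _)).comp (Ext.mk₀ φ.hom) (add_zero _) = 0 := by
    rw [← hz, Ext.zero_comp]
  rwa [Ext.comp_assoc_of_second_deg_zero, Ext.mk₀_comp_mk₀, Iso.inv_hom_id, Ext.comp_mk₀_id] at h2

theorem exists_mono_tors {F : EtCoh.Ab X} (hF : EtCoh.IsTorsion F) :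
    ∃ (I : EtCoh.Ab X) (_ : Injective I) (m : F ⟶ tors I), Mono m := by
  classical
  let ip := (EnoughInjectives.presentation F).some
  haveI : Injective ip.J := ip.injective
  obtain ⟨J, _, _, D, c, ⟨hc⟩, hpt, hk⟩ := exists_killed_colimit hF
  subst hpt
  choose m hm hkill using hk
  have hl : ∀ j, (c.ι.app j ≫ ip.f) ≫ (Nat.factorial (m j) • 𝟙 ip.J) = 0 := fun j => by
    obtain ⟨r, hr⟩ := Nat.dvd_factorial (hm j) le_rfl
    rw [hr, mul_comm, mul_smul, Preadditive.comp_nsmul, Preadditive.comp_nsmul, Category.comp_id]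
    conv_lhs => rw [← Category.id_comp (c.ι.app j ≫ ip.f), ← Preadditive.nsmul_comp, hkill j, zero_comp]
    exact smul_zero _
  let a : ∀ j, D.obj j ⟶ tors ip.J := fun j =>
    (kernel.lift _ (c.ι.app j ≫ ip.f) (hl j) : D.obj j ⟶ (tD ip.J).obj ⟨m j⟩) ≫ colimit.ι (tD ip.J) ⟨m j⟩
  have ha : ∀ (i j : J) (h : i ⟶ j), D.map h ≫ a j = a i := fun i j h => by
    have hi : (⟨m i⟩ : ULift.{u} ℕ) ≤ ⟨max (m i) (m j)⟩ := ULift.down_le.1 (le_max_left _ _)
    have hj : (⟨m j⟩ : ULift.{u} ℕ) ≤ ⟨max (m i) (m j)⟩ := ULift.down_le.1 (le_max_right _ _)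
    show D.map h ≫ _ ≫ colimit.ι (tD ip.J) ⟨m j⟩ = _ ≫ colimit.ι (tD ip.J) ⟨m i⟩
    rw [← colimit.w (tD ip.J) (homOfLE hi), ← colimit.w (tD ip.J) (homOfLE hj), ← Category.assoc, ← Category.assoc,
      ← Category.assoc]
    refine congrArg (· ≫ colimit.ι (tD ip.J) _) ?_
    refine (cancel_mono (kernel.ι _)).1 ?_
    simp only [Category.assoc]
    erw [tD_map_ι, tD_map_ι, kernel.lift_ι, kernel.lift_ι]
    exact Cocone.w_assoc c h ip.f
  let cc : Cocone D :=
    { pt := tors ip.J
      ι :=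
        { app := a
          naturality := fun i j h => (ha i j h).trans (Category.comp_id _).symm } }
  have hι : hc.desc cc ≫ torsι ip.J = ip.f := hc.hom_ext fun j => by
    rw [hc.fac_assoc]
    show (_ ≫ colimit.ι (tD ip.J) ⟨m j⟩) ≫ torsι ip.J = _
    rw [Category.assoc, torsι, colimit.ι_desc]
    exact kernel.lift_ι _ _ _
  haveI : Mono (hc.desc cc ≫ torsι ip.J) := by rw [hι]; infer_instance
  exact ⟨ip.J, ip.injective, hc.desc cc, mono_of_mono _ (torsι ip.J)⟩

end HTopCmp

end
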