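import Groth.Agent.HTopCmpLib.HypFill
import Mathlib.CategoryTheory.Sites.Grothendieck
import Mathlib.GroupTheory.FreeAbelianGroup

/-!
# Local cones in a simplicial object of a site which is locally filled
-/

set_option autoImplicit false
set_option backward.isDefEq.respectTransparency false
set_option backward.isDefEq.respectTransparency.types false

universe v w t

open CategoryTheory CategoryTheory.Limits Opposite SimplexCategory Simplicial

noncomputable section

namespace HTopCmp.Hyp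

variable {C : Type v} [Category.{w} C] (J : GrothendieckTopology C) (K : SimplicialObject C)

/-- Spheres in `K` are locally filled and vertices exist locally. -/
structure Fills : Prop where
  vertex : ∀ U : C, ∃ R ∈ J U, ∀ ⦃V : C⦄ (f : V ⟶ U), R f → Nonempty (V ⟶ K.obj (op ⦋0⦌))
  edge : ∀ {U : C} (y v : U ⟶ K.obj (op ⦋0⦌)), ∃ R ∈ J U, ∀ ⦃V : C⦄ (h : V ⟶ U), R h →
    ∃ w : V ⟶ K.obj (op ⦋1⦌), w ≫ K.δ 0 = h ≫ y ∧ w ≫ K.δ 1 = h ≫ v
  sphere : ∀ {U : C} {m : ℕ} (z : Fin (m + 3) → (U ⟶ K.obj (op ⦋m + 1⦌))),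
    (∀ i j : Fin (m + 2), i ≤ j → z j.succ ≫ K.δ i = z i.castSucc ≫ K.δ j) →
    ∃ R ∈ J U, ∀ ⦃V : C⦄ (h : V ⟶ U), R h → ∃ w : V ⟶ K.obj (op ⦋m + 2⦌), ∀ k, w ≫ K.δ k = h ≫ z k

/-- The morphism to a vertex, as a degenerate simplex. -/
theorem nonempty_of_vertex {U : C} (v : U ⟶ K.obj (op ⦋0⦌)) (n : ℕ) : Nonempty (U ⟶ K.obj (op ⦋n⦌)) :=
  ⟨v ≫ K.map (SimplexCategory.const ⦋n⦌ ⦋0⦌ 0).op⟩

/-- The conditions on a cone over the simplices in `F`, in degree at most `k`. -/
def IsCone {U V : C} (v : U ⟶ K.obj (op ⦋0⦌)) (F : ∀ l, Set (U ⟶ K.obj (op ⦋l⦌))) (f : V ⟶ U)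
    (h : ∀ l, (U ⟶ K.obj (op ⦋l⦌)) → (V ⟶ K.obj (op ⦋l + 1⦌))) (k : ℕ) : Prop :=
  (∀ l, l < k → ∀ y ∈ F l, h l y ≫ K.δ 0 = f ≫ y) ∧
    (0 < k → ∀ y ∈ F 0, h 0 y ≫ K.δ 1 = f ≫ v) ∧
    ∀ l, l + 1 < k → ∀ y ∈ F (l + 1), ∀ i : Fin (l + 2), h (l + 1) y ≫ K.δ i.succ = h l (y ≫ K.δ i)

variable {J K}

theorem IsCone.restrict {U V W : C} {v : U ⟶ K.obj (op ⦋0⦌)} {F : ∀ l, Set (U ⟶ K.obj (op ⦋l⦌))} {f : V ⟶ U}
    {h : ∀ l, (U ⟶ K.obj (op ⦋l⦌)) → (V ⟶ K.obj (op ⦋l + 1⦌))} {k : ℕ} (H : IsCone K v F f h k) (g : W ⟶ V) :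
    IsCone K v F (g ≫ f) (fun l y => g ≫ h l y) k := by
  refine ⟨fun l hl y hy => ?_, fun hk y hy => ?_, fun l hl y hy i => ?_⟩
  · rw [Category.assoc, H.1 l hl y hy, Category.assoc]
  · rw [Category.assoc, H.2.1 hk y hy, Category.assoc]
  · rw [Category.assoc, H.2.2 l hl y hy i]

/-- Locally there is a cone over finitely many simplices. -/
theorem exists_cone (hK : Fills J K) {U : C} (v : U ⟶ K.obj (op ⦋0⦌))
    (F : ∀ l, Set (U ⟶ K.obj (op ⦋l⦌))) (hF : ∀ l, (F l).Finite)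
    (hface : ∀ l, ∀ y ∈ F (l + 1), ∀ i, y ≫ K.δ i ∈ F l) (k : ℕ) :
    ∃ R ∈ J U, ∀ ⦃V : C⦄ (f : V ⟶ U), R f → ∃ h, IsCone K v F f h k := by
  classical
  induction k with
  | zero =>
    refine ⟨⊤, J.top_mem U, fun V f _ => ⟨fun l _ => (nonempty_of_vertex K (f ≫ v) (l + 1)).some, ?_, ?_, ?_⟩⟩
    · exact fun l hl => absurd hl (Nat.not_lt_zero _)
    · exact fun hl => absurd hl (Nat.not_lt_zero _)
    · exact fun l hl => absurd hl (Nat.not_lt_zero _)
  | succ k ih =>
    obtain ⟨R, hR, hh⟩ := ih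
    have step : ∀ ⦃V : C⦄ (f : V ⟶ U), R f → ∃ S ∈ J V, ∀ ⦃W : C⦄ (g : W ⟶ V), S g →
        ∃ h, IsCone K v F (g ≫ f) h (k + 1) := by
      intro V f hf
      obtain ⟨h, H⟩ := hh f hf
      have fill : ∀ y ∈ F k, ∃ S ∈ J V, ∀ ⦃W : C⦄ (g : W ⟶ V), S g → ∃ w : W ⟶ K.obj (op ⦋k + 1⦌),
          w ≫ K.δ 0 = (g ≫ f) ≫ y ∧ (∀ hk : k = 0, w ≫ K.δ 1 = (g ≫ f) ≫ (hk ▸ v)) ∧
          ∀ l (hl : k = l + 1), ∀ i : Fin (l + 2),
            w ≫ K.δ (Fin.cast (by omega) i.succ) = hl ▸ (g ≫ h l ((hl ▸ y : U ⟶ K.obj (op ⦋l + 1⦌)) ≫ K.δ i)) := by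
        intro y hy
        cases k with
        | zero =>
          obtain ⟨S, hS, hw⟩ := hK.edge (f ≫ y) (f ≫ v)
          refine ⟨S, hS, fun W g hg => ?_⟩
          obtain ⟨w, h0, h1⟩ := hw g hg
          exact ⟨w, by rw [h0, Category.assoc], fun _ => by rw [h1, Category.assoc], fun l hl => absurd hl (by omega)⟩
        | succ m =>
          let z : Fin (m + 3) → (V ⟶ K.obj (op ⦋m + 1⦌)) := Fin.cons (f ≫ y) fun i => h m (y ≫ K.δ i)
          have hz : ∀ i j : Fin (m + 2), i ≤ j → z j.succ ≫ K.δ i = z i.castSucc ≫ K.δ j := by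
            intro i j hij
            rcases Fin.eq_zero_or_eq_succ i with rfl | ⟨i', rfl⟩
            · simp only [z, Fin.cons_succ, Fin.castSucc_zero, Fin.cons_zero]
              rw [H.1 m (Nat.lt_succ_self m) _ (hface m y hy j), Category.assoc]
            · obtain ⟨j', rfl⟩ := Fin.exists_succ_eq.2 (show j ≠ 0 from fun h0 => by
                rw [h0] at hij; exact absurd hij (not_le_of_gt (Fin.succ_pos _)))
              have hij' : i' ≤ j' := Fin.succ_le_succ_iff.1 hij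
              simp only [z, Fin.cons_succ, ← Fin.succ_castSucc]
              cases m with
              | zero =>
                obtain rfl : i' = 0 := Subsingleton.elim (α := Fin 1) _ _
                obtain rfl : j' = 0 := Subsingleton.elim (α := Fin 1) _ _
                exact (H.2.1 Nat.one_pos _ (hface 0 y hy _)).trans (H.2.1 Nat.one_pos _ (hface 0 y hy _)).symm
              | succ p =>
                rw [H.2.2 p (Nat.lt_succ_self _) _ (hface _ y hy _) i', H.2.2 p (Nat.lt_succ_self _) _ (hface _ y hy _) j',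
                  Category.assoc, Category.assoc, K.δ_comp_δ hij']
          obtain ⟨S, hS, hw⟩ := hK.sphere z hz
          refine ⟨S, hS, fun W g hg => ?_⟩
          obtain ⟨w, hwk⟩ := hw g hg
          refine ⟨w, by rw [hwk]; exact (Category.assoc _ _ _).symm, fun hk => absurd hk (by omega), fun l hl i => ?_⟩
          obtain rfl : m = l := by omega
          rw [show Fin.cast _ i.succ = i.succ from rfl, hwk]
          rfl
      choose! S hS hw using fill
      refine ⟨(hF k).toFinset.inf S, ?_, fun W g hg => ?_⟩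
      · refine Finset.inf_induction (p := fun R => R ∈ J V) (J.top_mem V)
          (fun a ha b hb => J.intersection_covering ha hb) fun y hy => hS y ((hF k).mem_toFinset.1 hy)
      · haveI : Nonempty (W ⟶ K.obj (op ⦋k + 1⦌)) := nonempty_of_vertex K ((g ≫ f) ≫ v) _
        have hg' : ∀ y ∈ F k, S y g := fun y hy => (Finset.inf_le ((hF k).mem_toFinset.2 hy) : _ ≤ S y) _ hg
        choose! w h0 h1 h2 using fun y hy => hw y hy g (hg' y hy)
        have Hr := H.restrict g
        refine ⟨Function.update (fun l y => g ≫ h l y) k w, fun l hl y hy => ?_, fun _ y hy => ?_,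
          fun l hl y hy i => ?_⟩
        · rcases Nat.lt_succ_iff_lt_or_eq.1 hl with hl' | rfl
          · rw [Function.update_of_ne (Nat.ne_of_lt hl')]
            exact Hr.1 l hl' y hy
          · rw [Function.update_self]
            exact h0 y hy
        · rcases Nat.eq_zero_or_pos k with rfl | hk
          · rw [Function.update_self]
            exact h1 y hy rfl
          · rw [Function.update_of_ne (Nat.ne_of_lt hk)]
            exact Hr.2.1 hk y hy
        · rcases Nat.lt_succ_iff_lt_or_eq.1 hl with hl' | heq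
          · rw [Function.update_of_ne (Nat.ne_of_lt hl'), Function.update_of_ne (by omega)]
            exact Hr.2.2 l hl' y hy i
          · subst heq
            rw [Function.update_self, Function.update_of_ne (by omega)]
            exact h2 y hy l rfl i
    choose! S hS hcone using step
    exact ⟨Sieve.bind R.arrows fun _ f hf => S f, J.bind_covering hR fun _ f hf => hS f hf, by
      rintro W _ ⟨V, g, f, hf, hg, rfl⟩
      exact hcone f hf g hg⟩

variable (K)

/-- The free abelian group on the simplices over an object. -/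
abbrev Ch (n : ℕ) (U : C) : Type (max w t) := FreeAbelianGroup (ULift.{t} (U ⟶ K.obj (op ⦋n⦌)))

/-- Restriction of chains. -/
abbrev resC {n : ℕ} {U V : C} (f : V ⟶ U) (c : Ch.{v, w, t} K n U) : Ch.{v, w, t} K n V :=
  FreeAbelianGroup.map (fun y => ⟨f ≫ y.down⟩) c

/-- The differential on chains. -/
def dd (n : ℕ) (U : C) : Ch.{v, w, t} K (n + 1) U →+ Ch.{v, w, t} K n U :=
  ∑ i : Fin (n + 2), ((-1 : ℤ) ^ (i : ℕ)) • FreeAbelianGroup.map (fun y => ⟨y.down ≫ K.δ i⟩)

theorem dd_of (n : ℕ) {U : C} (y : U ⟶ K.obj (op ⦋n + 1⦌)) :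
    dd.{v, w, t} K n U (FreeAbelianGroup.of ⟨y⟩) =
      ∑ i : Fin (n + 2), ((-1 : ℤ) ^ (i : ℕ)) • FreeAbelianGroup.of ⟨y ≫ K.δ i⟩ := by
  simp only [dd, AddMonoidHom.finsetSum_apply, AddMonoidHom.smul_apply, FreeAbelianGroup.map_of_apply]

theorem dd_resC (n : ℕ) {U V : C} (f : V ⟶ U) (x : Ch.{v, w, t} K (n + 1) U) :
    dd K n V (resC K f x) = resC K f (dd K n U x) := by
  induction x using FreeAbelianGroup.induction_on with
  | zero => simp
  | of y =>
    obtain ⟨y⟩ := y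
    simp only [resC, FreeAbelianGroup.map_of_apply, dd_of, map_sum, map_zsmul, Category.assoc]
  | neg x ih => simp only [resC, map_neg] at ih ⊢; rw [ih]
  | add x y hx hy => simp only [resC, map_add] at hx hy ⊢; rw [hx, hy]

theorem exists_finite {X : Type t} (c : FreeAbelianGroup X) :
    ∃ s : Finset X, c ∈ AddSubgroup.closure (FreeAbelianGroup.of '' (s : Set X)) := by
  classical
  induction c using FreeAbelianGroup.induction_on with
  | zero => exact ⟨∅, zero_mem _⟩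
  | of x => exact ⟨{x}, AddSubgroup.subset_closure ⟨x, by simp, rfl⟩⟩
  | neg x ih => obtain ⟨s, hs⟩ := ih; exact ⟨s, neg_mem hs⟩
  | add x y hx hy =>
    obtain ⟨s, hs⟩ := hx
    obtain ⟨t, ht⟩ := hy
    exact ⟨s ∪ t, add_mem (AddSubgroup.closure_mono (Set.image_mono (by simp)) hs)
      (AddSubgroup.closure_mono (Set.image_mono (by simp)) ht)⟩

variable {K}

/-- A positive degree cycle is locally a boundary. -/
theorem exists_boundary (hK : Fills J K) {n : ℕ} {U : C} (c : Ch.{v, w, t} K (n + 1) U)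
    (hc : dd K n U c = 0) :
    ∃ R ∈ J U, ∀ ⦃V : C⦄ (f : V ⟶ U), R f → ∃ b : Ch.{v, w, t} K (n + 2) V, dd K (n + 1) V b = resC K f c := by
  classical
  obtain ⟨R₀, hR₀, hv⟩ := hK.vertex U
  have step : ∀ ⦃V : C⦄ (f : V ⟶ U), R₀ f → ∃ S ∈ J V, ∀ ⦃W : C⦄ (g : W ⟶ V), S g →
      ∃ b : Ch.{v, w, t} K (n + 2) W, dd K (n + 1) W b = resC K (g ≫ f) c := by
    intro V f hf
    obtain ⟨v⟩ := hv f hf
    obtain ⟨s, hs⟩ := exists_finite (resC K f c)
    let F : ∀ l, Set (V ⟶ K.obj (op ⦋l⦌)) := fun l =>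
      Set.range fun p : (⦋l⦌ ⟶ ⦋n + 1⦌) × (s : Set (ULift.{t} (V ⟶ K.obj (op ⦋n + 1⦌)))) => p.2.1.down ≫ K.map p.1.op
    have hFf : ∀ l, (F l).Finite := fun l => by
      haveI := finite_hom ⦋l⦌ ⦋n + 1⦌
      exact Set.finite_range _
    have hFs : ∀ y ∈ s, y.down ∈ F (n + 1) := fun y hy => ⟨(𝟙 _, ⟨y, hy⟩), by simp⟩
    obtain ⟨S, hS, hcone⟩ := exists_cone hK v F hFf (fun l y hy i => by
      obtain ⟨⟨θ, p⟩, rfl⟩ := hy
      refine ⟨(SimplexCategory.δ i ≫ θ, p), ?_⟩
      simp only [op_comp, Functor.map_comp, Category.assoc]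
      rfl) (n + 2)
    refine ⟨S, hS, fun W g hg => ?_⟩
    obtain ⟨h, H⟩ := hcone g hg
    let hh : ∀ l, ULift.{t} (V ⟶ K.obj (op ⦋l⦌)) → ULift.{t} (W ⟶ K.obj (op ⦋l + 1⦌)) := fun l y => ⟨h l y.down⟩
    refine ⟨FreeAbelianGroup.map (hh (n + 1)) (resC K f c), ?_⟩
    have key : ∀ z ∈ AddSubgroup.closure (FreeAbelianGroup.of '' (s : Set (ULift.{t} (V ⟶ K.obj (op ⦋n + 1⦌))))),
        dd K (n + 1) W (FreeAbelianGroup.map (hh (n + 1)) z) =
          resC K g z - FreeAbelianGroup.map (hh n) (dd K n V z) := by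
      intro z hz
      induction hz using AddSubgroup.closure_induction with
      | mem x hx =>
        obtain ⟨⟨y⟩, hy, rfl⟩ := hx
        have hy' := hFs ⟨y⟩ hy
        simp only [resC, FreeAbelianGroup.map_of_apply, hh]
        rw [dd_of, Fin.sum_univ_succ, Fin.val_zero, pow_zero, one_zsmul, H.1 (n + 1) (Nat.lt_succ_self _) y hy',
          sub_eq_add_neg, dd_of, map_sum, ← Finset.sum_neg_distrib]
        refine congrArg₂ (· + ·) rfl (Finset.sum_congr rfl fun i _ => ?_)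
        rw [H.2.2 n (Nat.lt_succ_self _) y hy' i, map_zsmul, FreeAbelianGroup.map_of_apply, Fin.val_succ, pow_succ,
          mul_neg_one, neg_smul]
      | zero => simp
      | add a b _ _ ha hb => simp only [map_add] at ha hb ⊢; rw [ha, hb]; abel
      | neg a _ ha => simp only [map_neg] at ha ⊢; rw [ha]; abel
    rw [key _ hs, dd_resC, hc]
    simp only [resC, map_zero, sub_zero]
    rw [← FreeAbelianGroup.map_comp_apply]
    exact congrArg (fun φ => FreeAbelianGroup.map φ c) (funext fun y => by simp [Category.assoc])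
  choose! S hS hb using step
  exact ⟨Sieve.bind R₀.arrows fun _ f hf => S f, J.bind_covering hR₀ fun _ f hf => hS f hf, by
    rintro W _ ⟨V, g, f, hf, hg, rfl⟩
    exact hb f hf g hg⟩

end HTopCmp.Hyp

end
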