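import Groth.Agent.HTopCmpLib.Desc
import Groth.Agent.HTopCmpLib.HypCone
import Mathlib.AlgebraicTopology.AlternatingFaceMapComplex
import Mathlib.CategoryTheory.Abelian.Injective.Basic

/-!
# Descent along proper hypercoverings for torsion sheaves, through the ph topology
-/

set_option autoImplicit false
set_option linter.style.haveILetI false
set_option linter.unusedSectionVars false
set_option backward.isDefEq.respectTransparency false
set_option backward.isDefEq.respectTransparency.types false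
set_option maxHeartbeats 1000000
universe u

open CategoryTheory CategoryTheory.Limits AlgebraicGeometry Opposite CategoryTheory.Abelian Groth.Agent.EpsLib
open Groth.Agent SimplexCategory Simplicial AlgebraicTopology

attribute [local instance] CategoryTheory.Abelian.hasFiniteBiproducts

namespace HTopCmp.HypDesc

noncomputable section

open Desc (AbP JP secW topY)
open Hyp (Fills Ch dd resC)

variable {Y : Scheme.{u}}

/-- A proper surjective morphism over `Y` covers. -/
theorem mem_single {V' V : Over Y} (p : V' ⟶ V) [IsProper p.left] [Surjective p.left] :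
    Sieve.ofArrows (fun _ : PUnit.{u + 1} => V') (fun _ => p) ∈ JP Y V := by
  rw [GrothendieckTopology.mem_over_iff]
  refine GrothendieckTopology.superset_covering _ ?_ (Precoverage.generate_mem_toGrothendieck
    ((HTop.presieve₀_mem_phPrecoverage_iff _).2 (Desc.isPhCover_proper p.left)))
  rw [Sieve.generate_le_iff]
  rintro _ _ ⟨⟨⟩⟩
  exact (Sieve.overEquiv_iff _ _).2 ⟨V', Over.homMk (𝟙 _) ((Category.id_comp _).trans (Over.w p).symm),
    p, ⟨⟨⟩⟩, Over.OverMorphism.ext (Category.id_comp _)⟩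

/-- A proper surjective morphism is locally surjective on sections. -/
theorem exists_local_lift {A B U : Over Y} (η : A ⟶ B) [IsProper η.left] [Surjective η.left] (c : U ⟶ B) :
    ∃ R ∈ JP Y U, ∀ ⦃V : Over Y⦄ (h : V ⟶ U), R h → ∃ e : V ⟶ A, e ≫ η = h ≫ c := by
  let P : Over Y := Over.mk (pullback.fst c.left η.left ≫ U.hom)
  let p : P ⟶ U := Over.homMk (pullback.fst c.left η.left)
  let q : P ⟶ A := Over.homMk (pullback.snd c.left η.left) (by
    show pullback.snd c.left η.left ≫ A.hom = pullback.fst c.left η.left ≫ U.hom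
    rw [← Over.w η, ← Over.w c, pullback.condition_assoc])
  haveI : IsProper p.left := MorphismProperty.pullback_fst (P := @IsProper) _ _ ‹_›
  haveI : Surjective p.left := MorphismProperty.pullback_fst (P := @Surjective) _ _ ‹_›
  refine ⟨_, mem_single p, ?_⟩
  rintro V h ⟨_, g, _, ⟨⟨⟩⟩, rfl⟩
  refine ⟨g ≫ q, ?_⟩
  rw [Category.assoc, Category.assoc]
  exact congrArg (g ≫ ·) (Over.OverMorphism.ext pullback.condition.symm)

variable (K : SimplicialObject (Over Y))
  [∀ (n : ℕ) (G : (SimplexCategory.Truncated n)ᵒᵖ ⥤ Over Y),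
    (SimplexCategory.Truncated.inclusion n).op.HasRightKanExtension G]

/-- The hypothesis of a proper hypercovering. -/
abbrev Step : Prop :=
  ∀ n : ℕ, IsProper (((SimplicialObject.coskAdj n).unit.app K).app (op ⦋n + 1⦌)).left ∧
    Surjective (((SimplicialObject.coskAdj n).unit.app K).app (op ⦋n + 1⦌)).left

variable [IsProper (K.obj (op ⦋0⦌)).hom] [Surjective (K.obj (op ⦋0⦌)).hom]

/-- The map to the base. -/
def π0 : K.obj (op ⦋0⦌) ⟶ topY Y := Over.homMk (K.obj (op ⦋0⦌)).hom (Category.comp_id _)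

theorem mem : Sieve.ofArrows (fun _ : PUnit.{u + 1} => K.obj (op ⦋0⦌)) (fun _ => π0 K) ∈ JP Y (topY Y) := by
  haveI : IsProper (π0 K).left := ‹IsProper (K.obj (op ⦋0⦌)).hom›
  haveI : Surjective (π0 K).left := ‹Surjective (K.obj (op ⦋0⦌)).hom›
  exact mem_single (π0 K)

theorem fills (hK : Step K) : Fills (JP Y) K where
  vertex U := by
    haveI : IsProper (π0 K).left := ‹IsProper (K.obj (op ⦋0⦌)).hom›
    haveI : Surjective (π0 K).left := ‹Surjective (K.obj (op ⦋0⦌)).hom›
    obtain ⟨R, hR, h⟩ := exists_local_lift (π0 K) (Over.homMk U.hom (Category.comp_id _) : U ⟶ topY Y)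
    exact ⟨R, hR, fun V f hf => ⟨(h f hf).choose⟩⟩
  edge {U} y v := by
    obtain ⟨c, hc⟩ := Hyp.exists_sphere K (N := 0) ![y, v] (Hyp.compat_zero K _)
    haveI := (hK 0).1
    haveI := (hK 0).2
    obtain ⟨R, hR, h⟩ := exists_local_lift (((SimplicialObject.coskAdj 0).unit.app K).app (op ⦋0 + 1⦌)) c
    refine ⟨R, hR, fun V f hf => ?_⟩
    obtain ⟨e, he⟩ := h f hf
    exact ⟨e, hc f e he 0, hc f e he 1⟩
  sphere {U m} z hz := by
    obtain ⟨c, hc⟩ := Hyp.exists_sphere K (N := m + 1) z (Hyp.compat_succ K z hz)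
    haveI := (hK (m + 1)).1
    haveI := (hK (m + 1)).2
    obtain ⟨R, hR, h⟩ := exists_local_lift (((SimplicialObject.coskAdj (m + 1)).unit.app K).app (op ⦋m + 1 + 1⦌)) c
    refine ⟨R, hR, fun V f hf => ?_⟩
    obtain ⟨e, he⟩ := h f hf
    exact ⟨e, hc f e he⟩

/-- The Čech complex. -/
abbrev cech : ((Over Y)ᵒᵖ ⥤ AddCommGrpCat.{u + 1}) ⥤ CochainComplex AddCommGrpCat.{u + 1} ℕ :=
  (Functor.whiskeringLeft SimplexCategory (Over Y)ᵒᵖ AddCommGrpCat.{u + 1}).obj K.rightOp ⋙
    alternatingCofaceMapComplex AddCommGrpCat.{u + 1}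

theorem sum_hom_apply {ι : Type*} (s : Finset ι) {A B : AddCommGrpCat.{u + 1}} (f : ι → (A ⟶ B)) (x : A) :
    (∑ i ∈ s, f i) x = ∑ i ∈ s, f i x := by
  classical
  induction s using Finset.induction with
  | empty => simp
  | insert a s ha ih => rw [Finset.sum_insert ha, Finset.sum_insert ha, ← ih]; rfl

theorem cech_d_apply (M : (Over Y)ᵒᵖ ⥤ AddCommGrpCat.{u + 1}) (n : ℕ) (x : M.obj (op (K.obj (op ⦋n⦌)))) :
    ((cech K).obj M).d n (n + 1) x = ∑ i : Fin (n + 2), ((-1 : ℤ) ^ (i : ℕ)) • M.map (K.δ i).op x := by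
  show (AlternatingCofaceMapComplex.obj (K.rightOp ⋙ M)).d n (n + 1) x = _
  simp only [AlternatingCofaceMapComplex.obj, CochainComplex.of_d, AlternatingCofaceMapComplex.objD]
  exact sum_hom_apply (A := M.obj (op (K.obj (op ⦋n⦌)))) (B := M.obj (op (K.obj (op ⦋n + 1⦌)))) Finset.univ _ x

instance additive_cech : (cech K).Additive where
  map_add := by intros; ext n : 1; rfl

/-- The free presheaf on simplices. -/
def freeP (n : ℕ) : (Over Y)ᵒᵖ ⥤ AddCommGrpCat.{u + 1} where
  obj U := AddCommGrpCat.of (Ch.{u + 1, u, u + 1} K n U.unop)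
  map f := AddCommGrpCat.ofHom (FreeAbelianGroup.map fun y => ⟨f.unop ≫ y.down⟩)
  map_id U := AddCommGrpCat.hom_ext (FreeAbelianGroup.lift_ext _ _ fun y => by simp)
  map_comp f g := AddCommGrpCat.hom_ext (FreeAbelianGroup.lift_ext _ _ fun y => by simp)

/-- The differential of the free presheaves. -/
def dP (n : ℕ) : freeP K (n + 1) ⟶ freeP K n where
  app U := AddCommGrpCat.ofHom (dd K n U.unop)
  naturality U V f := AddCommGrpCat.ext fun x => Hyp.dd_resC K n f.unop x

/-- A section as a map out of the free presheaf. -/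
def toHom (M : (Over Y)ᵒᵖ ⥤ AddCommGrpCat.{u + 1}) {n : ℕ} (x : M.obj (op (K.obj (op ⦋n⦌)))) : freeP K n ⟶ M where
  app U := AddCommGrpCat.ofHom (FreeAbelianGroup.lift fun y => M.map y.down.op x)
  naturality U V f := AddCommGrpCat.hom_ext (FreeAbelianGroup.lift_ext _ _ fun y => by
    show FreeAbelianGroup.lift _ (FreeAbelianGroup.map _ (FreeAbelianGroup.of y)) =
      M.map f (FreeAbelianGroup.lift _ (FreeAbelianGroup.of y))
    simp)

theorem toHom_dd (M : (Over Y)ᵒᵖ ⥤ AddCommGrpCat.{u + 1}) {n : ℕ} (x : M.obj (op (K.obj (op ⦋n⦌)))) (U : Over Y)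
    (c : Ch.{u + 1, u, u + 1} K (n + 1) U) :
    (toHom K M x).app (op U) (dd K n U c) = (toHom K M (((cech K).obj M).d n (n + 1) x)).app (op U) c := by
  induction c using FreeAbelianGroup.induction_on with
  | zero => simp
  | of y =>
    obtain ⟨y⟩ := y
    show FreeAbelianGroup.lift _ (dd K n U (FreeAbelianGroup.of ⟨y⟩)) = FreeAbelianGroup.lift _ (FreeAbelianGroup.of _)
    rw [Hyp.dd_of, FreeAbelianGroup.lift_apply_of, map_sum, cech_d_apply, map_sum]
    refine Finset.sum_congr rfl fun i _ => ?_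
    rw [map_zsmul, map_zsmul, FreeAbelianGroup.lift_apply_of, op_comp, Functor.map_comp, ConcreteCategory.comp_apply]
  | neg x ih => rw [map_neg, map_neg, map_neg, ih]
  | add a b ha hb => rw [map_add, map_add, map_add, ha, hb]

theorem exact_injective (hK : Step K) (M : AbP Y) [Injective M] (n : ℕ) (x : M.obj.obj (op (K.obj (op ⦋n + 1⦌))))
    (hx : ((cech K).obj M.obj).d (n + 1) (n + 2) x = 0) :
    ∃ y, ((cech K).obj M.obj).d n (n + 1) y = x := by
  let φ := toHom K M.obj x
  have hφ : ∀ (U : Over Y) (c : Ch.{u + 1, u, u + 1} K (n + 1) U), dd K n U c = 0 → φ.app (op U) c = 0 := fun U c hc => by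
    obtain ⟨R, hR, hb⟩ := Hyp.exists_boundary (fills K hK) c hc
    refine sheaf_sect_ext M R hR _ _ fun P g hg => ?_
    obtain ⟨b, hb'⟩ := hb g hg
    rw [map_zero, ← NatTrans.naturality_apply φ g.op c]
    show φ.app (op P) (resC K g c) = 0
    rw [← hb', toHom_dd, hx]
    have : ∀ b, (toHom K M.obj (0 : M.obj.obj (op (K.obj (op ⦋n + 2⦌))))).app (op P) b = 0 := fun b => by
      induction b using FreeAbelianGroup.induction_on with
      | zero => simp
      | of y => exact (FreeAbelianGroup.lift_apply_of _ _).trans (map_zero _)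
      | neg x ih => rw [map_neg, ih, neg_zero]
      | add a b ha hb => rw [map_add, ha, hb, add_zero]
    exact this b
  have h : kernel.ι (dP K n) ≫ φ = 0 := NatTrans.ext (funext fun U => AddCommGrpCat.ext fun z => by
    refine hφ U.unop _ ?_
    exact ConcreteCategory.congr_hom (NatTrans.congr_app (kernel.condition (dP K n)) U) z)
  let φ' : Abelian.coimage (dP K n) ⟶ M.obj := cokernel.desc _ φ h
  haveI : (sheafToPresheaf (JP Y) AddCommGrpCat.{u + 1}).PreservesInjectiveObjects :=
    Functor.preservesInjectiveObjects_of_adjunction_of_preservesMonomorphisms (sheafificationAdjunction _ _)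
  haveI : Injective M.obj := (sheafToPresheaf (JP Y) AddCommGrpCat.{u + 1}).injective_obj M
  let ψ := Injective.factorThru φ' (Abelian.factorThruCoimage (dP K n))
  have hψ : dP K n ≫ ψ = φ := by
    conv_lhs => rw [← Abelian.coimage.fac (dP K n), Category.assoc, Injective.comp_factorThru]
    exact cokernel.π_desc _ _ _
  let K' := K.obj (op ⦋n⦌)
  let y := ψ.app (op K') (FreeAbelianGroup.of ⟨𝟙 K'⟩)
  refine ⟨y, ?_⟩
  let L := K.obj (op ⦋n + 1⦌)
  have hx' : φ.app (op L) (FreeAbelianGroup.of ⟨𝟙 L⟩) = x := by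
    show FreeAbelianGroup.lift _ (FreeAbelianGroup.of _) = x
    rw [FreeAbelianGroup.lift_apply_of, op_id, M.obj.map_id]
    rfl
  rw [← hx', ← hψ, NatTrans.comp_app, ConcreteCategory.comp_apply]
  show _ = ψ.app (op L) (dd K n L (FreeAbelianGroup.of ⟨𝟙 L⟩))
  rw [cech_d_apply, Hyp.dd_of, map_sum]
  refine Finset.sum_congr rfl fun i _ => ?_
  rw [map_zsmul, ← NatTrans.naturality_apply ψ (K.δ i).op]
  refine congrArg _ (congrArg _ ?_)
  show FreeAbelianGroup.map _ (FreeAbelianGroup.of _) = _
  rw [FreeAbelianGroup.map_of_apply, Category.id_comp]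
  rfl

/-- The augmentation. -/
def aug₀ (M : AbP Y) : (secW (topY Y)).obj M ⟶ ((cech K).obj M.obj).X 0 :=
  M.obj.map (π0 K).op

theorem cech_d_zero (M : AbP Y) (x : M.obj.obj (op (K.obj (op ⦋0⦌)))) :
    ((cech K).obj M.obj).d 0 1 x = M.obj.map (K.δ (0 : Fin 2)).op x - M.obj.map (K.δ (1 : Fin 2)).op x := by
  rw [cech_d_apply, Fin.sum_univ_two]
  simp [sub_eq_add_neg]

theorem aug₀_d (M : AbP Y) : aug₀ K M ≫ ((cech K).obj M.obj).d 0 1 = 0 := by
  refine AddCommGrpCat.ext fun x => ?_
  change ((cech K).obj M.obj).d 0 1 (M.obj.map (π0 K).op x) = 0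
  rw [cech_d_zero, ← Functor.map_comp_apply, ← Functor.map_comp_apply, ← op_comp, ← op_comp, sub_eq_zero]
  exact congrArg (fun t => M.obj.map (Quiver.Hom.op t) x) (Over.mkIdTerminal.hom_ext _ _)

/-- The augmented Čech complex. -/
def augC (M : AbP Y) :
    (CochainComplex.single₀ AddCommGrpCat.{u + 1}).obj ((secW (topY Y)).obj M) ⟶ (cech K).obj M.obj :=
  (CochainComplex.fromSingle₀Equiv _ _).symm ⟨aug₀ K M, aug₀_d K M⟩

theorem augC_f_zero (M : AbP Y) : (augC K M).f 0 = aug₀ K M :=
  CochainComplex.fromSingle₀Equiv_symm_apply_f_zero _ _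

theorem mono_aug₀ (M : AbP Y) : Mono (aug₀ K M) := by
  rw [AddCommGrpCat.mono_iff_injective]
  intro a b hab
  refine sheaf_sect_ext M _ (mem K) a b ?_
  rintro P g ⟨_, h, _, ⟨⟨⟩⟩, rfl⟩
  have := congrArg (M.obj.map h.op) hab
  change M.obj.map h.op (M.obj.map (π0 K).op a) = M.obj.map h.op (M.obj.map (π0 K).op b) at this
  rw [← Functor.map_comp_apply, ← Functor.map_comp_apply, ← op_comp] at this
  exact this

theorem exact_aug₀ (hK : Step K) (M : AbP Y) :
    (ShortComplex.mk (aug₀ K M) (((cech K).obj M.obj).d 0 1) (aug₀_d K M)).Exact := by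
  rw [ShortComplex.ab_exact_iff]
  intro x hx
  change ((cech K).obj M.obj).d 0 1 x = 0 at hx
  rw [cech_d_zero, sub_eq_zero] at hx
  obtain ⟨s, hs⟩ := sheaf_glue_single M (π0 K) (mem K) x fun P a b hab => by
    obtain ⟨R, hR, hw⟩ := (fills K hK).edge a b
    refine sheaf_sect_ext M R hR _ _ fun V g hg => ?_
    obtain ⟨w, hw0, hw1⟩ := hw g hg
    rw [← Functor.map_comp_apply, ← Functor.map_comp_apply, ← op_comp, ← op_comp, ← hw0, ← hw1, op_comp, op_comp,
      Functor.map_comp_apply, Functor.map_comp_apply, hx]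
  exact ⟨s, hs⟩

theorem quasiIso_augC (hK : Step K) (M : AbP Y) [Injective M] : QuasiIso (augC K M) := ⟨fun n => by
  cases n with
  | zero =>
    haveI := mono_aug₀ K M
    rw [quasiIsoAt_iff' _ 0 0 1 (by simp) (by simp)]
    refine (ShortComplex.quasiIso_iff_of_zeros _ ?_ ?_ ?_).2 ⟨?_, ?_⟩
    · show ((CochainComplex.single₀ AddCommGrpCat.{u + 1}).obj ((secW (topY Y)).obj M)).d 0 0 = 0
      simp
    · show ((CochainComplex.single₀ AddCommGrpCat.{u + 1}).obj ((secW (topY Y)).obj M)).d 0 1 = 0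
      simp
    · show ((cech K).obj M.obj).d 0 0 = 0
      exact HomologicalComplex.shape _ _ _ (by simp)
    · refine ShortComplex.exact_of_iso (ShortComplex.isoMk (Iso.refl _) (Iso.refl _) (Iso.refl _) ?_ ?_) (exact_aug₀ K hK M)
      · exact ((Category.id_comp _).trans (augC_f_zero K M)).trans (Category.comp_id _).symm
      · exact (Category.id_comp _).trans (Category.comp_id _).symm
    · simp only [HomologicalComplex.shortComplexFunctor'_map_τ₂, augC_f_zero]
      infer_instance
  | succ n =>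
    rw [quasiIsoAt_iff_exactAt']
    · exact CochainComplex.exactAt_succ_single_obj _ _
    · rw [HomologicalComplex.exactAt_iff' _ n (n + 1) (n + 2) (by simp) (by simp), ShortComplex.ab_exact_iff]
      exact fun x hx => exact_injective K hK M n x hx⟩

/-- The Čech complex, indexed by integers. -/
abbrev extCo : AbP Y ⥤ CochainComplex AddCommGrpCat.{u + 1} ℤ :=
  (sheafToPresheaf _ _ ⋙ cech K) ⋙ ComplexShape.embeddingUpNat.extendFunctor AddCommGrpCat.{u + 1}

/-- The augmentation in degree zero. -/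
def η : secW (topY Y) ⟶ extCo K ⋙ HomologicalComplex.eval _ (ComplexShape.up ℤ) 0 where
  app M := aug₀ K M ≫ (((cech K).obj M.obj).extendXIso ComplexShape.embeddingUpNat (i := 0) (i' := (0 : ℤ)) rfl).inv
  naturality M M' φ := by
    refine ((Category.assoc _ _ _).symm.trans (congrArg (· ≫ _)
      ((φ.hom.naturality (π0 K).op).symm))).trans ?_
    change _ = (aug₀ K M ≫ _) ≫ (HomologicalComplex.extendMap ((cech K).map φ.hom) ComplexShape.embeddingUpNat).f 0
    rw [HomologicalComplex.extendMap_f _ ComplexShape.embeddingUpNat (i := 0) (i' := (0 : ℤ)) rfl]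
    simp only [Category.assoc, Iso.inv_hom_id_assoc]
    rfl

theorem η_d (M : AbP Y) (j : ℤ) : (η K).app M ≫ ((extCo K).obj M).d 0 j = 0 := by
  by_cases hj : (ComplexShape.up ℤ).Rel 0 j
  · obtain rfl : (1 : ℤ) = j := by simpa using hj
    change (aug₀ K M ≫ _) ≫ (((cech K).obj M.obj).extend ComplexShape.embeddingUpNat).d 0 1 = 0
    rw [HomologicalComplex.extend_d_eq _ ComplexShape.embeddingUpNat (i := 0) (j := 1) (i' := (0 : ℤ)) (j' := (1 : ℤ)) rfl rfl]
    simp only [Category.assoc, Iso.inv_hom_id_assoc]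
    exact ((Category.assoc _ _ _).symm.trans (congrArg (· ≫ _) (aug₀_d K M))).trans zero_comp
  · rw [HomologicalComplex.shape _ _ _ hj, comp_zero]

/-- The augmentation of one row. -/
abbrev rowAug (M : AbP Y) :
    (HomologicalComplex.single AddCommGrpCat.{u + 1} (ComplexShape.up ℤ) 0).obj ((secW (topY Y)).obj M) ⟶
      (extCo K).obj M :=
  HomologicalComplex.mkHomFromSingle ((η K).app M) fun j _ => η_d K M j

theorem quasiIso_rowAug (hK : Step K) (M : AbP Y) [Injective M] : QuasiIso (rowAug K M) := by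
  haveI := quasiIso_augC K hK M
  have : rowAug K M = (HomologicalComplex.extendSingleIso ComplexShape.embeddingUpNat ((secW (topY Y)).obj M)
      (i := 0) (i' := (0 : ℤ)) rfl).inv ≫
      HomologicalComplex.extendMap (augC K M) ComplexShape.embeddingUpNat := by
    refine HomologicalComplex.from_single_hom_ext ?_
    rw [HomologicalComplex.mkHomFromSingle_f, HomologicalComplex.comp_f,
      HomologicalComplex.extendMap_f _ ComplexShape.embeddingUpNat (i := 0) (i' := (0 : ℤ)) rfl, augC_f_zero]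
    simp [η, HomologicalComplex.extendSingleIso]
  rw [this]
  infer_instance

variable (G : CochainComplex (AbP Y) ℤ)

/-- The bicomplex. -/
abbrev bi : SpSeqLib.BiTotal.Bi AddCommGrpCat.{u + 1} :=
  HomologicalComplex₂.flip (((extCo K).mapHomologicalComplex (ComplexShape.up ℤ)).obj G)

/-- The sections over the base. -/
abbrev secG : CochainComplex AddCommGrpCat.{u + 1} ℤ :=
  ((secW (topY Y)).mapHomologicalComplex (ComplexShape.up ℤ)).obj G

/-- The augmentation of the bicomplex, in degree zero. -/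
def η₀ : secG G ⟶ (bi K G).X 0 where
  f q := (η K).app (G.X q)
  comm' q q' _ := ((η K).naturality (G.d q q')).symm

/-- The augmentation of the bicomplex. -/
def ε : (HomologicalComplex.single (CochainComplex AddCommGrpCat.{u + 1} ℤ) (ComplexShape.up ℤ) 0).obj (secG G) ⟶
    bi K G :=
  HomologicalComplex.mkHomFromSingle (η₀ K G) fun j _ => by
    ext q : 1
    exact η_d K (G.X q) j

/-- The columns. -/
def colIso (p : ℕ) :
    (bi K G).X (p : ℤ) ≅
      ((secW (K.obj (op ⦋p⦌))).mapHomologicalComplex (ComplexShape.up ℤ)).obj G :=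
  HomologicalComplex.Hom.isoOfComponents
    (fun q => ((cech K).obj (G.X q).obj).extendXIso ComplexShape.embeddingUpNat (i := p) rfl) fun q q' _ => by
      change _ ≫ (G.d q q').hom.app (op (K.obj (op ⦋p⦌))) =
        (HomologicalComplex.extendMap ((cech K).map (G.d q q').hom) ComplexShape.embeddingUpNat).f (p : ℤ) ≫ _
      rw [HomologicalComplex.extendMap_f _ ComplexShape.embeddingUpNat (i := p) (i' := (p : ℤ)) rfl]
      simp only [Category.assoc, Iso.inv_hom_id, Category.comp_id]
      rfl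

theorem isZero_bi [G.IsStrictlyGE 0] (p q : ℤ) (h : p < 0 ∨ q < 0) : IsZero (((bi K G).X p).X q) := by
  change IsZero (((extCo K).obj (G.X q)).X p)
  rcases h with h | h
  · exact HomologicalComplex.isZero_extend_X _ _ p fun k hk => by
      change (k : ℤ) = p at hk
      omega
  · exact Functor.map_isZero (extCo K ⋙ HomologicalComplex.eval _ (ComplexShape.up ℤ) p)
      (G.isZero_of_isStrictlyGE 0 q h)

theorem mono_ε : Mono (ε K G) := by
  haveI : ∀ m, Mono ((ε K G).f m) := fun m => by
    by_cases hm : m = 0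
    · subst hm
      haveI : Mono (η₀ K G) := by
        haveI : ∀ q, Mono ((η₀ K G).f q) := fun q => by
          haveI := mono_aug₀ K (G.X q)
          change Mono ((η K).app (G.X q))
          dsimp only [η]
          infer_instance
        exact HomologicalComplex.mono_of_mono_f _ inferInstance
      rw [ε, HomologicalComplex.mkHomFromSingle_f]
      infer_instance
    · exact ⟨fun _ _ _ => (HomologicalComplex.isZero_single_obj_X _ _ _ _ hm).eq_of_tgt _ _⟩
  exact HomologicalComplex.mono_of_mono_f _ inferInstance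

theorem quasiIso_row (hK : Step K) (q : ℤ) [Injective (G.X q)] :
    QuasiIso (((HomologicalComplex.eval AddCommGrpCat.{u + 1} (ComplexShape.up ℤ) q).mapHomologicalComplex
      (ComplexShape.up ℤ)).map (ε K G)) := by
  haveI := quasiIso_rowAug K hK (G.X q)
  let e := (HomologicalComplex.singleMapHomologicalComplex (HomologicalComplex.eval AddCommGrpCat.{u + 1} (ComplexShape.up ℤ) q)
    (ComplexShape.up ℤ) 0).app (secG G)
  have : e.inv ≫ ((HomologicalComplex.eval AddCommGrpCat.{u + 1} (ComplexShape.up ℤ) q).mapHomologicalComplex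
      (ComplexShape.up ℤ)).map (ε K G) = rowAug K (G.X q) := by
    refine HomologicalComplex.from_single_hom_ext ?_
    rw [HomologicalComplex.comp_f, HomologicalComplex.mkHomFromSingle_f]
    change e.inv.f 0 ≫ ((ε K G).f 0).f q = _
    rw [ε, HomologicalComplex.mkHomFromSingle_f, HomologicalComplex.comp_f]
    simp [e, η₀, HomologicalComplex.singleMapHomologicalComplex]
    rfl
  haveI : QuasiIso (e.inv ≫ ((HomologicalComplex.eval AddCommGrpCat.{u + 1} (ComplexShape.up ℤ) q).mapHomologicalComplex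
      (ComplexShape.up ℤ)).map (ε K G)) := this ▸ ‹QuasiIso (rowAug K (G.X q))›
  exact quasiIso_of_comp_left e.inv _


/-- Homology of the sections of an extended resolution. -/
theorem nonempty_extend_homology (W : Over Y) {A : AbP Y} (I : InjectiveResolution A) (q : ℕ) :
    Nonempty ((((secW W).mapHomologicalComplex (ComplexShape.up ℤ)).obj I.cochainComplex).homology (q : ℤ) ≅
      (((secW W).mapHomologicalComplex _).obj I.cocomplex).homology q) :=
  ⟨(HomologicalComplex.homologyFunctor _ _ (q : ℤ)).mapIso (SpSeqLib.mapExtendNatIso (secW W) I.cocomplex) ≪≫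
    (((secW W).mapHomologicalComplex _).obj I.cocomplex).extendHomologyIso ComplexShape.embeddingUpNat
      (j := q) (j' := (q : ℤ)) rfl⟩

/-- An injective resolution computes étale cohomology of the members. -/
theorem nonempty_homology_iso_obj (W : Over Y) (F : EtCoh.Ab Y) (hF : EtCoh.IsTorsion F)
    (I : InjectiveResolution ((piK cmp_ph Y).obj F)) (q : ℕ) :
    Nonempty ((((secW W).mapHomologicalComplex _).obj I.cocomplex).homology q ≅
      AddCommGrpCat.of (EtCoh.H W.left ((EtCoh.pull W.hom).obj F) q)) := by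
  obtain ⟨e⟩ := Desc.nonempty_homology_iso W.hom F hF I q
  let i : W ≅ (Over.map W.hom).obj (Over.mk (𝟙 W.left)) := Over.isoMk (Iso.refl _)
  exact ⟨(HomologicalComplex.homologyFunctor _ _ q).mapIso ((NatIso.mapHomologicalComplex
    ((sheafSections (JP Y) AddCommGrpCat.{u + 1}).mapIso i.op) _).app I.cocomplex).symm ≪≫ e⟩

include K in
/-- **The descent spectral sequence of a proper hypercovering.** -/
theorem main (hK : Step K) (F : EtCoh.Ab Y) (hF : EtCoh.IsTorsion F) :
    ∃ (E : CohomologicalSpectralSequence AddCommGrpCat.{u + 1} 1)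
      (a : SpSeq.Abutment E (fun n : ℤ =>
        if 0 ≤ n then AddCommGrpCat.of (EtCoh.H Y F n.toNat) else AddCommGrpCat.of PUnit.{u + 2})),
      (∀ n, a.IsFinite n) ∧ SpSeq.IsBounded E ∧
      ∀ p q : ℤ, Nonempty ((E.page 1 le_rfl).X (p, q) ≅
        (if 0 ≤ p ∧ 0 ≤ q then
          AddCommGrpCat.of (EtCoh.H (K.obj (op (SimplexCategory.mk p.toNat))).left
            ((EtCoh.pull (K.obj (op (SimplexCategory.mk p.toNat))).hom).obj F) q.toNat)
         else AddCommGrpCat.of PUnit.{u + 2})) := by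
  let I : InjectiveResolution ((piK cmp_ph Y).obj F) := injectiveResolution _
  let G := I.cochainComplex
  haveI := mono_ε K G
  have hPU : IsZero (AddCommGrpCat.of PUnit.{u + 2}) := AddCommGrpCat.isZero_of_subsingleton _
  haveI : AB4OfSize.{0} AddCommGrpCat.{u + 1} := AB4OfSize_shrink.{0, u + 1} _
  obtain ⟨E, ab, h1, h2, h3, h4⟩ := BlowRegLib.BiSSAb.exists_spectralSequence.{u + 1, u + 2} (C := AddCommGrpCat.{u + 1}) (bi K G) (isZero_bi K G) (secG G) (ε K G)
    (fun q => quasiIso_row K G hK q)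
    (fun n : ℤ => if 0 ≤ n then AddCommGrpCat.of (EtCoh.H Y F n.toNat) else AddCommGrpCat.of PUnit.{u + 2})
    (fun n => by
      obtain ⟨e₁⟩ := nonempty_extend_homology (topY Y) I n
      obtain ⟨e₂⟩ := Desc.nonempty_homology_iso_top F hF I n
      exact ⟨eqToIso (by simp) ≪≫ (e₁ ≪≫ e₂).symm⟩)
    (fun n hn => by
      simp only [if_neg (not_le.mpr hn)]
      exact hPU)
  refine ⟨E, ab, h1, h2, fun p q => ?_⟩
  by_cases hpq : 0 ≤ p ∧ 0 ≤ q
  · rw [if_pos hpq]
    obtain ⟨a, rfl⟩ := Int.eq_ofNat_of_zero_le hpq.1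
    obtain ⟨b, rfl⟩ := Int.eq_ofNat_of_zero_le hpq.2
    obtain ⟨e₀⟩ := h3 a b
    obtain ⟨e₁⟩ := nonempty_extend_homology (K.obj (op ⦋a⦌)) I b
    obtain ⟨e₂⟩ := nonempty_homology_iso_obj (K.obj (op ⦋a⦌)) F hF I b
    exact ⟨e₀ ≪≫ (HomologicalComplex.homologyFunctor _ _ (b : ℤ)).mapIso (colIso K G a) ≪≫ e₁ ≪≫ e₂⟩
  · rw [if_neg hpq]
    exact ⟨(h4 p q (by omega)).iso hPU⟩

end

end HTopCmp.HypDesc
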