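import Mathlib.AlgebraicTopology.SimplicialObject.Coskeletal
import Mathlib.CategoryTheory.Limits.Shapes.FiniteProducts
import Mathlib.Tactic

/-!
# Compatible spheres in a simplicial object as morphisms to the coskeleton
-/

set_option autoImplicit false
set_option backward.isDefEq.respectTransparency false
set_option backward.isDefEq.respectTransparency.types false

universe v w

open CategoryTheory CategoryTheory.Limits Opposite SimplexCategory Simplicial

noncomputable section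

namespace HTopCmp.Hyp

theorem finite_hom (A B : SimplexCategory) : Finite (A ⟶ B) :=
  Finite.of_injective (fun θ : A ⟶ B => (θ.toOrderHom : Fin (A.len + 1) → Fin (B.len + 1))) fun _ _ h =>
    SimplexCategory.Hom.ext _ _ (OrderHom.ext _ _ h)

attribute [local instance] finite_hom

theorem exists_missed {A : SimplexCategory} {N : ℕ} (hA : A.len ≤ N) (θ : A ⟶ ⦋N + 1⦌) :
    ∃ j : Fin (N + 2), ∀ k, θ.toOrderHom k ≠ j := by
  by_contra h
  push Not at h
  have := Fintype.card_le_of_surjective θ.toOrderHom h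
  simp at this
  omega

variable {C : Type v} [Category.{w} C] (K : SimplicialObject C) {W : C} {N : ℕ}
  (z : Fin (N + 2) → (W ⟶ K.obj (op ⦋N⦌)))

/-- The compatibility of the members of a sphere. -/
def Compat : Prop :=
  ∀ {A : SimplexCategory} (i j : Fin (N + 2)) (p q : A ⟶ ⦋N⦌), i < j →
    p ≫ SimplexCategory.δ j = q ≫ SimplexCategory.δ i → z j ≫ K.map p.op = z i ≫ K.map q.op

theorem compat_zero (z : Fin 2 → (W ⟶ K.obj (op ⦋0⦌))) : Compat K (N := 0) z := fun {A} i j p q hij h => by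
  obtain ⟨rfl, rfl⟩ : i = 0 ∧ j = 1 := by
    revert hij
    fin_cases i <;> fin_cases j <;> simp
  have h1 : Fin.succAbove (1 : Fin 2) (p.toOrderHom 0) = Fin.succAbove (0 : Fin 2) (q.toOrderHom 0) :=
    congrArg (fun t : A ⟶ ⦋1⦌ => t.toOrderHom 0) h
  rw [Subsingleton.elim (α := Fin 1) (p.toOrderHom 0) 0, Subsingleton.elim (α := Fin 1) (q.toOrderHom 0) 0] at h1
  simp at h1

theorem compat_succ {m : ℕ} (z : Fin (m + 3) → (W ⟶ K.obj (op ⦋m + 1⦌)))
    (hz : ∀ i j : Fin (m + 2), i ≤ j → z j.succ ≫ K.δ i = z i.castSucc ≫ K.δ j) : Compat K (N := m + 1) z := by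
  intro A i j p q hij hpq
  obtain ⟨j₀, rfl⟩ := Fin.exists_succ_eq.2 (show j ≠ 0 from fun h => by rw [h] at hij; exact (Nat.not_lt_zero _ hij))
  obtain ⟨i₀, rfl⟩ := Fin.exists_castSucc_eq.2 (show i ≠ Fin.last (m + 2) from fun h => by
    rw [h] at hij; exact not_le_of_gt hij (Fin.le_last _))
  have hle : i₀ ≤ j₀ := Fin.castSucc_lt_succ_iff.1 hij
  have hmiss : ∀ k, p.toOrderHom k ≠ i₀ := fun k hk => by
    have h1 : (p ≫ SimplexCategory.δ j₀.succ).toOrderHom k = i₀.castSucc := by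
      show (Fin.succAbove j₀.succ) (p.toOrderHom k) = _
      rw [hk]
      exact Fin.succAbove_of_castSucc_lt _ _ hij
    rw [hpq] at h1
    exact Fin.succAbove_ne i₀.castSucc (q.toOrderHom k) h1
  have hp := SimplexCategory.factor_δ_spec p i₀ hmiss
  have hq : q = SimplexCategory.factor_δ p i₀ ≫ SimplexCategory.δ j₀ := by
    rw [← cancel_mono (SimplexCategory.δ i₀.castSucc), ← hpq, Category.assoc, ← SimplexCategory.δ_comp_δ hle,
      ← Category.assoc, hp]
  let ρ := SimplexCategory.factor_δ p i₀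
  calc z j₀.succ ≫ K.map p.op = z j₀.succ ≫ K.map (ρ ≫ SimplexCategory.δ i₀).op := by rw [hp]
    _ = (z j₀.succ ≫ K.δ i₀) ≫ K.map ρ.op := by rw [op_comp, K.map_comp, ← Category.assoc]; rfl
    _ = (z i₀.castSucc ≫ K.δ j₀) ≫ K.map ρ.op := by rw [hz i₀ j₀ hle]
    _ = _ := by rw [hq, op_comp, K.map_comp, Category.assoc]; rfl

/-- The candidate value of a compatible sphere on a small simplex. -/
def bdry (A : SimplexCategory) (hA : A.len ≤ N) (θ : A ⟶ ⦋N + 1⦌) : W ⟶ K.obj (op A) :=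
  z (exists_missed hA θ).choose ≫ K.map (SimplexCategory.factor_δ (m := A.len) θ (exists_missed hA θ).choose).op

variable (hz : Compat K z)

include hz in
theorem bdry_eq (A : SimplexCategory) (hA : A.len ≤ N) (θ : A ⟶ ⦋N + 1⦌) (j : Fin (N + 2))
    (p : A ⟶ ⦋N⦌) (hp : p ≫ SimplexCategory.δ j = θ) :
    bdry K z A hA θ = z j ≫ K.map p.op := by
  have hc := SimplexCategory.factor_δ_spec (m := A.len) θ _ (exists_missed hA θ).choose_spec
  rcases lt_trichotomy (exists_missed hA θ).choose j with h | h | h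
  · exact (hz _ _ p _ h (hp.trans hc.symm)).symm
  · subst h
    exact congrArg (fun t : A ⟶ ⦋N⦌ => z _ ≫ K.map t.op) ((cancel_mono _).1 (hc.trans hp.symm))
  · exact hz _ _ _ p h (hc.trans hp.symm)

include hz in
theorem bdry_map {A B : SimplexCategory} (hA : A.len ≤ N) (hB : B.len ≤ N) (θ : B ⟶ A) (p : A ⟶ ⦋N + 1⦌) :
    bdry K z A hA p ≫ K.map θ.op = bdry K z B hB (θ ≫ p) := by
  obtain ⟨j, hj⟩ := exists_missed hA p
  have hp := SimplexCategory.factor_δ_spec (m := A.len) p j hj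
  rw [bdry_eq K z hz A hA p j _ hp, bdry_eq K z hz B hB (θ ≫ p) j _ ((Category.assoc _ _ _).trans (congrArg (θ ≫ ·) hp)),
    Category.assoc, ← K.map_comp, ← op_comp]

variable [HasFiniteCoproducts C]

/-- Copies of an object indexed by the simplices of a standard simplex. -/
def simp' (W : C) (M : ℕ) : SimplicialObject C where
  obj n := ∐ fun _ : n.unop ⟶ ⦋M⦌ => W
  map {n n'} θ := Sigma.desc fun p => Sigma.ι (fun _ : n'.unop ⟶ ⦋M⦌ => W) (θ.unop ≫ p)
  map_id n := Sigma.hom_ext _ _ fun p => by simp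
  map_comp θ θ' := Sigma.hom_ext _ _ fun p => by simp

/-- The map from the truncated simplex given by a compatible sphere. -/
def bdryTrunc : (SimplicialObject.truncation N).obj (simp' W (N + 1)) ⟶ (SimplicialObject.truncation N).obj K where
  app A := Sigma.desc fun p => bdry K z A.unop.obj A.unop.property p
  naturality A B θ := Sigma.hom_ext _ _ fun p => by
    show Sigma.ι _ p ≫ Sigma.desc _ ≫ Sigma.desc _ = Sigma.ι _ p ≫ Sigma.desc _ ≫ K.map θ.unop.hom.op
    rw [Sigma.ι_desc_assoc, Sigma.ι_desc_assoc, Sigma.ι_desc]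
    exact (bdry_map K z hz A.unop.property B.unop.property θ.unop.hom p).symm

variable [∀ (F : (SimplexCategory.Truncated N)ᵒᵖ ⥤ C),
  (SimplexCategory.Truncated.inclusion N).op.HasRightKanExtension F]

include hz in
/-- A compatible sphere is a section of the coskeleton, and lifts along the unit are fillings. -/
theorem exists_sphere :
    ∃ c : W ⟶ ((SimplicialObject.truncation N ⋙ SimplicialObject.Truncated.cosk N).obj K).obj (op ⦋N + 1⦌),
      ∀ {V : C} (h : V ⟶ W) (e : V ⟶ K.obj (op ⦋N + 1⦌)),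
        e ≫ ((SimplicialObject.coskAdj N).unit.app K).app (op ⦋N + 1⦌) = h ≫ c →
        ∀ k : Fin (N + 2), e ≫ K.δ k = h ≫ z k := by
  let η := (SimplicialObject.coskAdj N).unit.app K
  let ε := (SimplicialObject.coskAdj N).counit.app ((SimplicialObject.truncation N).obj K)
  let τ := bdryTrunc K z hz
  let g := (SimplicialObject.coskAdj N).homEquiv _ _ τ
  have hg : (SimplicialObject.truncation N).map g ≫ ε = τ := by
    refine Eq.trans ?_ (((SimplicialObject.coskAdj N).homEquiv _ _).symm_apply_apply τ)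
    exact (Adjunction.homEquiv_counit _ _ _ _).symm
  have htri : (SimplicialObject.truncation N).map η ≫ ε = 𝟙 _ :=
    (SimplicialObject.coskAdj N).left_triangle_components K
  let A₀ : (SimplexCategory.Truncated N)ᵒᵖ := op ⟨⦋N⦌, le_rfl⟩
  refine ⟨Sigma.ι (fun _ : ⦋N + 1⦌ ⟶ ⦋N + 1⦌ => W) (𝟙 _) ≫ g.app (op ⦋N + 1⦌), fun {V} h e he k => ?_⟩
  have e1 : η.app (op ⦋N⦌) ≫ ε.app A₀ = 𝟙 _ := NatTrans.congr_app htri A₀
  have e2 : g.app (op ⦋N⦌) ≫ ε.app A₀ = τ.app A₀ := NatTrans.congr_app hg A₀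
  have n1 := η.naturality (SimplexCategory.δ k).op
  have n2 := g.naturality (SimplexCategory.δ k).op
  calc e ≫ K.δ k = e ≫ K.map (SimplexCategory.δ k).op ≫ η.app (op ⦋N⦌) ≫ ε.app A₀ := by
        erw [e1]; erw [Category.comp_id]; rfl
    _ = (e ≫ η.app (op ⦋N + 1⦌)) ≫ _ ≫ ε.app A₀ := by
        erw [reassoc_of% n1]; rw [Category.assoc]
    _ = h ≫ Sigma.ι (fun _ : ⦋N + 1⦌ ⟶ ⦋N + 1⦌ => W) (𝟙 _) ≫
          (simp' W (N + 1)).map (SimplexCategory.δ k).op ≫ τ.app A₀ := by
        erw [he]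
        rw [← e2]
        simp only [Category.assoc]
        erw [reassoc_of% n2]
    _ = _ := by
        refine congrArg (h ≫ ·) ?_
        show Sigma.ι (fun _ : ⦋N + 1⦌ ⟶ ⦋N + 1⦌ => W) (𝟙 _) ≫
          Sigma.desc (fun p => Sigma.ι (fun _ : ⦋N⦌ ⟶ ⦋N + 1⦌ => W) (SimplexCategory.δ k ≫ p)) ≫
          Sigma.desc (fun p => bdry K z ⦋N⦌ le_rfl p) = z k
        rw [Sigma.ι_desc_assoc]
        erw [Sigma.ι_desc]
        rw [show bdry K z ⦋N⦌ le_rfl (SimplexCategory.δ k ≫ 𝟙 _) = z k from by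
          rw [bdry_eq K z hz ⦋N⦌ le_rfl _ k (𝟙 _) (by simp), op_id, K.map_id, Category.comp_id]]

end HTopCmp.Hyp

end
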