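import Groth.Agent.HTopCmpLib.Apply
import Groth.Agent.BlowRegLib.HTopGerms

/-!
# The ph and h precoverages
-/

set_option autoImplicit false
set_option linter.unusedSectionVars false
set_option linter.style.haveILetI false
set_option backward.isDefEq.respectTransparency false
set_option backward.isDefEq.respectTransparency.types false

universe u

open CategoryTheory CategoryTheory.Limits AlgebraicGeometry Opposite

namespace HTopCmp

theorem cmp_ph : Cmp (HTop.phPrecoverage : Precoverage Scheme.{u}) where
  le := BlowRegLib.HTopGerms.etale_le_ph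
  sheaf S F := BlowRegLib.HTopGerms.isSheaf_piEtPull S F _ (BlowRegLib.HTopGerms.Jph_le S)
  dom R hR Z _ g := by
    rw [← R.presieve₀_preZeroHypercover] at hR
    exact PhLib.dom_of_isPhCover _ ((HTop.presieve₀_mem_phPrecoverage_iff _).1 hR) g

theorem cmp_h : Cmp (HTop.hPrecoverage : Precoverage Scheme.{u}) where
  le := BlowRegLib.HTopGerms.etale_le_h
  sheaf S F := BlowRegLib.HTopGerms.isSheaf_piEtPull S F _ (BlowRegLib.HTopGerms.Jh_le S)
  dom R hR Z _ g := by
    rw [← R.presieve₀_preZeroHypercover] at hR
    obtain ⟨h1, h2⟩ := (HTop.presieve₀_mem_hPrecoverage_iff _).1 hR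
    exact RzLib.dom_of_isVCover _ h1 h2 g

theorem epsCont_ph (S : Scheme.{u}) :
    BigSite.EpsCont Scheme.etalePrecoverage (HTop.phPrecoverage : Precoverage Scheme.{u}) S :=
  BigSite.epsCont_of_le BlowRegLib.HTopGerms.etale_le_ph S

theorem epsCont_h (S : Scheme.{u}) :
    BigSite.EpsCont Scheme.etalePrecoverage (HTop.hPrecoverage : Precoverage Scheme.{u}) S :=
  BigSite.epsCont_of_le BlowRegLib.HTopGerms.etale_le_h S

end HTopCmp
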