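import Groth.Agent.HTopCmpLib.Site
import Groth.Agent.HTopCmpLib.Efface
import Groth.Agent.EtPBCProperLib.BigSite
import Groth.Agent.CdCurveLib.PushPt

/-!
# Torsion sheaves: the finer big sites have the cohomology of the big étale site
-/

set_option autoImplicit false
set_option linter.unusedSectionVars false
set_option linter.style.haveILetI false
set_option backward.isDefEq.respectTransparency false
set_option backward.isDefEq.respectTransparency.types false
set_option maxHeartbeats 2000000
set_option synthInstance.maxHeartbeats 400000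

universe u

open CategoryTheory CategoryTheory.Limits AlgebraicGeometry Opposite
open Groth.Agent

noncomputable section

namespace HTopCmp

variable {K : Precoverage Scheme.{u}} (hK : Cmp K) [∀ S, BigSite.EpsCont Scheme.etalePrecoverage K S]

/-- Quotients of torsion sheaves are torsion. -/
theorem isTorsion_of_epi {Y : Scheme.{u}} {B C : EtCoh.Ab Y} (q : B ⟶ C) [Epi q] (hB : EtCoh.IsTorsion B) :
    EtCoh.IsTorsion C := by
  intro U s x
  obtain ⟨W, φ, ⟨v, hv⟩, b, hb⟩ := EtAcycLib.exists_lift q U s x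
  obtain ⟨V, g, ⟨v', hv'⟩, hfin⟩ := hB W b v
  refine ⟨V, g ≫ φ, ⟨v', ?_⟩, ?_⟩
  · rw [← hv, ← hv']
    rfl
  · rw [op_comp, Functor.map_comp, ConcreteCategory.comp_apply, ← hb, ← NatTrans.naturality_apply q.hom g.op b]
    exact AddMonoidHom.isOfFinAddOrder (q.hom.app (op V)).hom hfin

theorem isTorsion_push {X Y : Scheme.{u}} (f : X ⟶ Y) [QuasiCompact f] [QuasiSeparated f] {F : EtCoh.Ab X}
    (hF : EtCoh.IsTorsion F) : EtCoh.IsTorsion ((EtCoh.push f).obj F) := by
  haveI : (EtCoh.push f).Additive := { }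
  haveI : PreservesLimitsOfSize.{0, 0} (EtCoh.push f) := (EtCoh.pullPushAdj f).rightAdjoint_preservesLimits
  haveI : PreservesFiniteLimits (EtCoh.push f) := PreservesLimitsOfSize.preservesFiniteLimits _
  exact EtShLib.isTorsion_of_iso ((EtCoh.push f).rightDerivedZeroIsoSelf.app F)
    (EtShLib.isTorsion_rightDerived_push f hF 0)

section Step

variable {S T : Scheme.{u}}

/-- Sheaves with germs inject along surjective morphisms. -/
theorem eq_zero_of_surjective (F : EtCoh.Ab S) {V V' : Over S} (p : V' ⟶ V) [Surjective p.left]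
    (ξ : ((BigSite.piEtPull Scheme.etalePrecoverage S).obj F).obj.obj (op V))
    (h : ((BigSite.piEtPull Scheme.etalePrecoverage S).obj F).obj.map p.op ξ = 0) : ξ = 0 := by
  let P := ((BigSite.piEtPull Scheme.etalePrecoverage S).obj F).obj ⋙ forget AddCommGrpCat.{u + 1}
  have hP : EtDescentLib.HasGerms P := EtDescentLib.hasGerms_piEtPull S F
  refine hP.ext fun G a hG => ?_
  obtain ⟨y⟩ := hG.nonempty
  obtain ⟨v', hv'⟩ := p.left.surjective (a.left y)
  obtain ⟨z, -, -⟩ := Scheme.Pullback.exists_preimage_pullback y v' hv'.symm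
  obtain ⟨G', b, hG', -⟩ := EtDescentLib.exists_geo_at (Over.mk (pullback.fst a.left p.left ≫ G.hom)) z
  let e : G' ⟶ G := b ≫ Over.homMk (pullback.fst a.left p.left) rfl
  let e' : G' ⟶ V' := b ≫ Over.homMk (pullback.snd a.left p.left) (by
    show pullback.snd a.left p.left ≫ V'.hom = pullback.fst a.left p.left ≫ G.hom
    rw [← Over.w a, ← Over.w p, pullback.condition_assoc])
  have he : e ≫ a = e' ≫ p := by
    simp only [e, e', Category.assoc]
    exact congrArg (b ≫ ·) (Over.OverMorphism.ext pullback.condition)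
  refine hP.injective e hG' hG ?_
  let M := ((BigSite.piEtPull Scheme.etalePrecoverage S).obj F).obj
  show M.map e.op (M.map a.op ξ) = M.map e.op (M.map a.op 0)
  rw [← ConcreteCategory.comp_apply, ← M.map_comp, ← op_comp, map_zero, map_zero, he, op_comp, M.map_comp,
    ConcreteCategory.comp_apply]
  exact (congrArg (M.map e'.op) h).trans (map_zero _)

/-- The vanishing assumption in degrees at most `m`. -/
def Vanish (m : ℕ) : Prop :=
  ∀ {X : Scheme.{u}} (G : EtCoh.Ab X), EtCoh.IsTorsion G → ∀ j, 1 ≤ j → j ≤ m →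
    IsZero (((ε K X).rightDerived j).obj ((piK hK X).obj G))

include hK in
theorem eq_zero_top {m : ℕ} (hm : Vanish hK m) (F : EtCoh.Ab T) (hF : EtCoh.IsTorsion F) {U : Scheme.{u}}
    (f : U ⟶ T) [IsProper f] [Surjective f]
    (ξ : (((ε K T).rightDerived (m + 1)).obj ((piK hK T).obj F)).obj.obj (op (Over.mk (𝟙 T))))
    (hξ : (((ε K T).rightDerived (m + 1)).obj ((piK hK T).obj F)).obj.map
      (Over.homMk f : Over.mk f ⟶ Over.mk (𝟙 T)).op ξ = 0) : ξ = 0 := by
  let adjA := BigSite.bigAdj K f AddCommGrpCat.{u + 1}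
  let adjB := BigSite.bigAdj Scheme.etalePrecoverage f AddCommGrpCat.{u + 1}
  haveI := BigEtLib.preservesHomology_pullBig f K
  haveI := BigEtLib.preservesInjective_pullBig f K
  haveI : (BigSite.pullBig K f AddCommGrpCat.{u + 1}).PreservesMonomorphisms := inferInstance
  haveI : (BigSite.pushBig K f AddCommGrpCat.{u + 1}).PreservesInjectiveObjects :=
    Functor.preservesInjectiveObjects_of_adjunction_of_preservesMonomorphisms adjA
  haveI : PreservesLimitsOfSize.{0, 0} (BigSite.pushBig K f AddCommGrpCat.{u + 1}) := adjA.rightAdjoint_preservesLimits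
  haveI : PreservesFiniteLimits (BigSite.pushBig K f AddCommGrpCat.{u + 1}) :=
    PreservesLimitsOfSize.preservesFiniteLimits _
  haveI : PreservesLimitsOfSize.{0, 0} (BigSite.pushBig Scheme.etalePrecoverage f AddCommGrpCat.{u + 1}) :=
    adjB.rightAdjoint_preservesLimits
  haveI : PreservesFiniteLimits (BigSite.pushBig Scheme.etalePrecoverage f AddCommGrpCat.{u + 1}) :=
    PreservesLimitsOfSize.preservesFiniteLimits _
  obtain ⟨eF⟩ := nonempty_pullBig_piK hK f F
  obtain ⟨I, _, mI, hmI⟩ := exists_mono_tors (CdCurveLib.isTorsion_pull_map f hF)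
  let J := tors I
  have hJ : EtCoh.IsTorsion J := isTorsion_tors I
  haveI := hmI
  let φ : (BigSite.pullBig K f AddCommGrpCat.{u + 1}).obj ((piK hK T).obj F) ⟶ (piK hK U).obj J :=
    eF.hom ≫ (piK hK U).map mI
  obtain ⟨eJ⟩ := nonempty_pushBig_piK hK f J
  let φ' := adjA.homEquiv _ _ φ
  -- the composite `φ'` is a monomorphism coming from the small site
  haveI : Mono φ' := by
    haveI hu : Mono (adjA.unit.app ((piK hK T).obj F)) := by
      apply (ε K T).mono_of_mono_map
      apply (sheafToPresheaf _ _).mono_of_mono_map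
      refine @NatTrans.mono_of_mono_app _ _ _ _ _ _ _ fun V => ?_
      refine (AddCommGrpCat.mono_iff_injective _).2 ((injective_iff_map_eq_zero (AddCommGrpCat.Hom.hom _)).2 fun a ha => ?_)
      haveI : Surjective ((Over.mapPullbackAdj f).counit.app V.unop).left := by
        haveI : Surjective (pullback.fst V.unop.hom f) := MorphismProperty.pullback_fst _ _ ‹_›
        simpa using ‹Surjective (pullback.fst V.unop.hom f)›
      exact eq_zero_of_surjective F ((Over.mapPullbackAdj f).counit.app V.unop) a ha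
    show Mono (adjA.homEquiv _ _ φ)
    rw [Adjunction.homEquiv_unit]
    infer_instance
  haveI := BigEtLib.isIso_piEtAdj_unit (A := AddCommGrpCat.{u + 1}) T
  let L := BigSite.piEtPull Scheme.etalePrecoverage T
  let hL := (BigSite.piEtAdj Scheme.etalePrecoverage T).fullyFaithfulLOfIsIsoUnit
  let b : F ⟶ (EtCoh.push f).obj J := hL.preimage ((ε K T).map (φ' ≫ eJ.hom))
  have hb : (piK hK T).map b = φ' ≫ eJ.hom := (ε K T).map_injective (hL.map_preimage _)
  haveI : Mono b := by
    haveI : L.Faithful := hL.faithful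
    haveI : Mono (L.map b) := by
      rw [hL.map_preimage]
      exact (ε K T).map_mono _
    exact L.mono_of_mono_map ‹_›
  let S₀ : ShortComplex (EtCoh.Ab T) := ShortComplex.mk b (cokernel.π b) (cokernel.condition _)
  have hS₀ : S₀.ShortExact :=
    { exact := ShortComplex.exact_of_g_is_cokernel _ (cokernelIsCokernel _)
      mono_f := inferInstanceAs (Mono b)
      epi_g := inferInstanceAs (Epi (cokernel.π b)) }
  have hS₁ := hS₀.map_of_exact (piK hK T)
  have hδ : (RDerLib.derivedLES (ε K T)).δ (S₀.map (piK hK T)) hS₁ m (m + 1) rfl = 0 := by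
    cases m with
    | zero =>
      haveI : Epi ((BigSite.piEtPull Scheme.etalePrecoverage T).map S₀.g) := by
        haveI := piEtPull_preservesFiniteColimits T
        haveI := hS₀.epi_g
        infer_instance
      haveI : Epi (((ε K T).rightDerived 0).map (S₀.map (piK hK T)).g) :=
        (RDerLib.epi_map_g_iff _).2 ‹Epi ((BigSite.piEtPull Scheme.etalePrecoverage T).map S₀.g)›
      exact zero_of_epi_comp _ ((RDerLib.derivedLES (ε K T)).comp_δ _ hS₁ 0 1 rfl)
    | succ k =>
      exact (hm S₀.X₃ (isTorsion_of_epi (cokernel.π b) (isTorsion_push f hJ)) (k + 1) (Nat.succ_pos k) le_rfl).eq_of_src _ _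
  haveI : Mono (((ε K T).rightDerived (m + 1)).map φ') := by
    haveI h1 : Mono (((ε K T).rightDerived (m + 1)).map ((piK hK T).map b)) :=
      ((RDerLib.derivedLES (ε K T)).exact₁ _ hS₁ m (m + 1) rfl).mono_g hδ
    rw [hb, Functor.map_comp] at h1
    exact mono_of_mono _ (((ε K T).rightDerived (m + 1)).map eJ.hom)
  -- vanishing on `J`
  have h1 : ∀ j, 1 ≤ j → j ≤ m → IsZero (((ε K U).rightDerived j).obj ((piK hK U).obj J)) :=
    fun j hj hjm => hm J hJ j hj hjm
  have h3 : ∀ j, 1 ≤ j → j ≤ m + 1 → IsZero (((BigSite.pushBig Scheme.etalePrecoverage f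
      AddCommGrpCat.{u + 1}).rightDerived j).obj ((ε K U).obj ((piK hK U).obj J))) := fun j hj _ => by
    obtain ⟨e⟩ := EtPBCProperLib.nonempty_piEtPull_Rpush f J hJ j
    haveI : (BigSite.piEtPull Scheme.etalePrecoverage T).Additive :=
      (BigSite.piEtAdj Scheme.etalePrecoverage T).left_adjoint_additive
    exact IsZero.of_iso ((BigSite.piEtPull Scheme.etalePrecoverage T).map_isZero (isZero_Rpush_tors I f j hj)) e.symm
  have h2 : ∀ j, 1 ≤ j → j ≤ m →
      IsZero (((BigSite.pushBig K f AddCommGrpCat.{u + 1}).rightDerived j).obj ((piK hK U).obj J)) := fun j hj hjm => by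
    obtain ⟨k, rfl⟩ : ∃ k, j = k + 1 := ⟨j - 1, by omega⟩
    exact isZero_R_fs (ε K T) (ε K U) adjA adjB (cIso K f) k _ (fun i hi hik => h1 i hi (by omega))
      fun i hi hik => h3 i hi (by omega)
  let R := ((ε K T).rightDerived (m + 1)).obj ((piK hK T).obj F)
  let η := adjB.unit.app R
  have hκ : (BigSite.pullBig Scheme.etalePrecoverage f AddCommGrpCat.{u + 1}).map (kernel.ι η) = 0 := by
    apply (adjB.homEquiv _ _).injective
    rw [Adjunction.homEquiv_unit, Adjunction.homEquiv_unit, Functor.map_zero, comp_zero]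
    exact (adjB.unit.naturality (kernel.ι η)).symm.trans (kernel.condition η)
  have hk := kill (ε K T) (ε K U) adjA adjB (cIso K f) m φ h1 h2 h3 (kernel.ι η) hκ
  haveI : Mono η := Preadditive.mono_of_kernel_zero ((cancel_mono (((ε K T).rightDerived (m + 1)).map φ')).1
    (hk.trans zero_comp.symm))
  have hinj : Function.Injective (η.hom.app (op (Over.mk (𝟙 T)))) := (AddCommGrpCat.mono_iff_injective _).1
    (inferInstanceAs (Mono ((sheafToPresheaf _ _ ⋙ (evaluation _ _).obj (op (Over.mk (𝟙 T)))).map η)))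
  refine hinj ?_
  rw [map_zero]
  let e : (Over.map f).obj ((Over.pullback f).obj (Over.mk (𝟙 T))) ≅ Over.mk f :=
    Over.isoMk (asIso (pullback.snd (𝟙 T) f) :) (by
      show pullback.snd (𝟙 T) f ≫ f = pullback.snd (𝟙 T) f ≫ f
      rfl)
  have he : (Over.mapPullbackAdj f).counit.app (Over.mk (𝟙 T)) =
      e.hom ≫ (Over.homMk f : Over.mk f ⟶ Over.mk (𝟙 T)) := (Over.mkIdTerminal (X := T)).hom_ext _ _
  show R.obj.map ((Over.mapPullbackAdj f).counit.app (Over.mk (𝟙 T))).op ξ = 0
  rw [he, op_comp, Functor.map_comp, ConcreteCategory.comp_apply]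
  exact (congrArg (R.obj.map e.hom.op) hξ).trans (map_zero _)

include hK in
theorem isZero_R_piK_step {m : ℕ} (hm : Vanish hK m) (F : EtCoh.Ab S) (hF : EtCoh.IsTorsion F) :
    IsZero (((ε K S).rightDerived (m + 1)).obj ((piK hK S).obj F)) := by
  refine isZero_of_inj hK _ (isZero_εPull_R S _ m) fun W Z π hW hπ hπs ξ hξ => ?_
  haveI : IsProper π.left := hπ
  haveI : Surjective π.left := hπs
  haveI := BigEtLib.preservesHomology_pullBig W.hom K
  haveI := BigEtLib.preservesInjective_pullBig W.hom K
  haveI := BigEtLib.preservesHomology_pullBig W.hom Scheme.etalePrecoverage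
  obtain ⟨eR⟩ := BigEtLib.nonempty_rightDerived_baseChange (ε K S) (ε K W.left)
    (BigSite.pullBig K W.hom AddCommGrpCat.{u + 1}) (BigSite.pullBig Scheme.etalePrecoverage W.hom AddCommGrpCat.{u + 1})
    (cIso K W.hom) ((piK hK S).obj F) (m + 1)
  obtain ⟨eF⟩ := nonempty_pullBig_piK hK W.hom F
  let M := ((ε K S).rightDerived (m + 1)).obj ((piK hK S).obj F)
  let N := ((ε K W.left).rightDerived (m + 1)).obj ((piK hK W.left).obj ((EtCoh.pull W.hom).obj F))
  let e : (BigSite.pullBig Scheme.etalePrecoverage W.hom AddCommGrpCat.{u + 1}).obj M ≅ N :=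
    eR ≪≫ ((ε K W.left).rightDerived (m + 1)).mapIso eF
  let a : (Over.map W.hom).obj (Over.mk (𝟙 W.left)) ≅ W := Over.isoMk (Iso.refl _)
  let b : (Over.map W.hom).obj (Over.mk π.left) ≅ Z := Over.isoMk (Iso.refl _) (by simp)
  let p : Over.mk π.left ⟶ Over.mk (𝟙 W.left) := Over.homMk π.left
  have hab : (Over.map W.hom).map p ≫ a.hom = b.hom ≫ π := by ext; simp [a, b, p]
  have h := eq_zero_top hK hm ((EtCoh.pull W.hom).obj F) (CdCurveLib.isTorsion_pull_map W.hom hF) π.left
    (e.hom.hom.app (op (Over.mk (𝟙 W.left))) (M.obj.map a.hom.op ξ)) (by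
      show N.obj.map p.op _ = 0
      rw [← NatTrans.naturality_apply e.hom.hom p.op]
      show e.hom.hom.app _ (M.obj.map ((Over.map W.hom).map p).op (M.obj.map a.hom.op ξ)) = 0
      rw [← ConcreteCategory.comp_apply (M.obj.map a.hom.op), ← Functor.map_comp, ← op_comp, hab, op_comp,
        Functor.map_comp, ConcreteCategory.comp_apply]
      exact (congrArg (fun t => e.hom.hom.app _ (M.obj.map b.hom.op t)) hξ).trans (by rw [map_zero]; exact map_zero _))
  have hinj : Function.Injective (fun t : M.obj.obj (op W) => e.hom.hom.app (op (Over.mk (𝟙 W.left))) (M.obj.map a.hom.op t)) :=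
    (((sheafToPresheaf _ _ ⋙ (evaluation _ _).obj _).mapIso e).addCommGroupIsoToAddEquiv.injective).comp
      (M.obj.mapIso a.op).addCommGroupIsoToAddEquiv.injective
  exact hinj (h.trans ((congrArg (e.hom.hom.app (op (Over.mk (𝟙 W.left)))) (map_zero (M.obj.map a.hom.op).hom)).trans (map_zero (e.hom.hom.app (op (Over.mk (𝟙 W.left)))).hom)).symm)

include hK in
/-- For torsion sheaves the higher direct images to the big étale site vanish. -/
theorem isZero_R_piK : ∀ (q : ℕ), 0 < q → ∀ (F : EtCoh.Ab S), EtCoh.IsTorsion F →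
    IsZero (((ε K S).rightDerived q).obj ((piK hK S).obj F)) := by
  have key : ∀ m : ℕ, Vanish hK m := by
    intro m
    induction m with
    | zero => exact fun G _ j hj hjm => absurd hjm (by omega)
    | succ m ih =>
      intro X G hG j hj hjm
      rcases Nat.lt_or_ge j (m + 1) with h | h
      · exact ih G hG j hj (by omega)
      · obtain rfl : j = m + 1 := by omega
        exact isZero_R_piK_step hK ih G hG
  exact fun q hq F hF => key q F hF q hq le_rfl

end Step

end HTopCmp

end
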