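import Groth.Agent.HTopCmpLib.Abstract
import Groth.Agent.BigEtLib.Compare
import Groth.Agent.EtDescentLib.Core
import Groth.Agent.PhLib.Scheme
import Groth.Agent.EtProperH0Lib.Main
import Groth.Agent.EpsLib.LanExact

/-!
# Comparing the big étale site with a finer big site generated by proper coverings
-/

set_option autoImplicit false
set_option linter.unusedSectionVars false
set_option linter.style.haveILetI false
set_option backward.isDefEq.respectTransparency false
set_option backward.isDefEq.respectTransparency.types false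
set_option maxHeartbeats 1000000

universe u

open CategoryTheory CategoryTheory.Limits AlgebraicGeometry Opposite

noncomputable section

namespace HTopCmp

/-- A precoverage finer than the étale one, for which étale sheaves pulled back from small sites are sheaves and
whose coverings of affine schemes are dominated by proper surjective morphisms followed by open coverings. -/
structure Cmp (K : Precoverage Scheme.{u}) : Prop where
  le : Scheme.etalePrecoverage ≤ K
  sheaf : ∀ (S : Scheme.{u}) (F : EtCoh.Ab S),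
    Presheaf.IsSheaf (QuotSh.J K S) ((BigSite.piEtPull Scheme.etalePrecoverage S).obj F).obj
  dom : ∀ {T : Scheme.{u}} (R : Presieve T), R ∈ K T → ∀ {Z : Scheme.{u}} [IsAffine Z] (g : Z ⟶ T),
    PhLib.Dom (PhLib.Lifts R.preZeroHypercover g)

variable {K : Precoverage Scheme.{u}} (hK : Cmp K) [∀ S, BigSite.EpsCont Scheme.etalePrecoverage K S]

variable (K) in
/-- A `K`-sheaf as a sheaf on the big étale site. -/
abbrev ε (S : Scheme.{u}) : BigSite.Ab K S ⥤ BigSite.Ab Scheme.etalePrecoverage S :=
  BigSite.eps Scheme.etalePrecoverage K S AddCommGrpCat.{u + 1}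

variable (K) in
/-- `K`-sheafification. -/
abbrev εPull (S : Scheme.{u}) : BigSite.Ab Scheme.etalePrecoverage S ⥤ BigSite.Ab K S :=
  BigSite.epsPull Scheme.etalePrecoverage K S

variable (K) in
/-- `ε` is fully faithful. -/
def εFF (S : Scheme.{u}) : (ε K S).FullyFaithful where
  preimage g := ⟨g.hom⟩

instance full_ε (S : Scheme.{u}) : (ε K S).Full := (εFF K S).full

instance faithful_ε (S : Scheme.{u}) : (ε K S).Faithful := (εFF K S).faithful

instance εPull_preservesFiniteLimits (S : Scheme.{u}) : PreservesFiniteLimits (εPull K S) :=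
  Groth.Agent.EpsLib.sheafPullback_preservesFiniteLimits _ _ _

instance εPull_preservesFiniteColimits (S : Scheme.{u}) : PreservesFiniteColimits (εPull K S) := by
  haveI : PreservesColimitsOfSize.{0, 0} (εPull K S) :=
    (BigSite.epsAdj Scheme.etalePrecoverage K S).leftAdjoint_preservesColimits
  exact PreservesColimitsOfSize.preservesFiniteColimits _

instance ε_preservesFiniteLimits (S : Scheme.{u}) : PreservesFiniteLimits (ε K S) := by
  haveI : PreservesLimitsOfSize.{0, 0} (ε K S) :=
    (BigSite.epsAdj Scheme.etalePrecoverage K S).rightAdjoint_preservesLimits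
  exact PreservesLimitsOfSize.preservesFiniteLimits _

instance ε_preservesInjective (S : Scheme.{u}) : (ε K S).PreservesInjectiveObjects :=
  Functor.preservesInjectiveObjects_of_adjunction_of_preservesMonomorphisms
    (BigSite.epsAdj Scheme.etalePrecoverage K S)

include hK in
/-- The pullback from the small étale site as a `K`-sheaf. -/
def piK (S : Scheme.{u}) : EtCoh.Ab S ⥤ BigSite.Ab K S :=
  ObjectProperty.lift _ (BigSite.piEtPull Scheme.etalePrecoverage S ⋙ sheafToPresheaf _ _) (hK.sheaf S)

/-- `piK` is the pullback to the big étale site. -/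
def piKε (S : Scheme.{u}) : piK hK S ⋙ ε K S ≅ BigSite.piEtPull Scheme.etalePrecoverage S :=
  NatIso.ofComponents (fun _ => Iso.refl _) fun _ => (Category.comp_id _).trans (Category.id_comp _).symm

/-- `piK` is the sheafification of the pullback. -/
def piKIso (S : Scheme.{u}) : piK hK S ≅ BigSite.piEtPull Scheme.etalePrecoverage S ⋙ εPull K S :=
  (Functor.rightUnitor _).symm ≪≫
    Functor.isoWhiskerLeft (piK hK S) (asIso (BigSite.epsAdj Scheme.etalePrecoverage K S).counit).symm ≪≫
    (Functor.associator _ _ _).symm ≪≫ Functor.isoWhiskerRight (piKε hK S) (εPull K S)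

theorem piEtPull_preservesFiniteColimits (S : Scheme.{u}) :
    PreservesFiniteColimits (BigSite.piEtPull Scheme.etalePrecoverage S) := by
  haveI : PreservesColimitsOfSize.{0, 0} (BigSite.piEtPull Scheme.etalePrecoverage S) :=
    (BigSite.piEtAdj Scheme.etalePrecoverage S).leftAdjoint_preservesColimits
  exact PreservesColimitsOfSize.preservesFiniteColimits _

instance piK_preservesFiniteLimits (S : Scheme.{u}) : PreservesFiniteLimits (piK hK S) := by
  haveI := BigEtLib.piEtPull_preservesFiniteLimits S Scheme.etalePrecoverage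
  haveI : PreservesFiniteLimits (BigSite.piEtPull Scheme.etalePrecoverage S ⋙ εPull K S) :=
    comp_preservesFiniteLimits _ _
  exact preservesFiniteLimits_of_natIso (piKIso hK S).symm

instance piK_preservesFiniteColimits (S : Scheme.{u}) : PreservesFiniteColimits (piK hK S) := by
  haveI := piEtPull_preservesFiniteColimits S
  haveI : PreservesFiniteColimits (BigSite.piEtPull Scheme.etalePrecoverage S ⋙ εPull K S) :=
    comp_preservesFiniteColimits _ _
  exact preservesFiniteColimits_of_natIso (piKIso hK S).symm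

instance piK_additive (S : Scheme.{u}) : (piK hK S).Additive :=
  Functor.additive_of_preserves_binary_products _

section Change

variable {S T : Scheme.{u}} (f : T ⟶ S)

variable (K) in
/-- Restriction commutes with `ε`. -/
def cIso : ε K S ⋙ BigSite.pullBig Scheme.etalePrecoverage f AddCommGrpCat.{u + 1} ≅
    BigSite.pullBig K f AddCommGrpCat.{u + 1} ⋙ ε K T :=
  NatIso.ofComponents (fun _ => Iso.refl _) fun _ => (Category.comp_id _).trans (Category.id_comp _).symm

theorem mateApp_eq (G : BigSite.Ab K T) :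
    mateApp (ε K S) (ε K T) (BigSite.bigAdj K f AddCommGrpCat.{u + 1})
      (BigSite.bigAdj Scheme.etalePrecoverage f AddCommGrpCat.{u + 1}) (cIso K f) G = 𝟙 _ := by
  apply Sheaf.hom_ext
  refine NatTrans.ext (funext fun V => ?_)
  rw [mateApp, Adjunction.homEquiv_unit]
  show G.obj.map ((Over.pullback f).map ((Over.mapPullbackAdj f).counit.app V.unop)).op ≫
    (𝟙 _ ≫ G.obj.map ((Over.mapPullbackAdj f).unit.app ((Over.pullback f).obj V.unop)).op) = 𝟙 _
  rw [Category.id_comp, ← Functor.map_comp, ← op_comp, Adjunction.right_triangle_components]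
  exact G.obj.map_id _

instance isIso_mateApp (G : BigSite.Ab K T) :
    IsIso (mateApp (ε K S) (ε K T) (BigSite.bigAdj K f AddCommGrpCat.{u + 1})
      (BigSite.bigAdj Scheme.etalePrecoverage f AddCommGrpCat.{u + 1}) (cIso K f) G) := by
  rw [mateApp_eq]
  exact IsIso.id _

theorem nonempty_pullBig_piEtPull : Nonempty (BigSite.piEtPull Scheme.etalePrecoverage S ⋙
    BigSite.pullBig Scheme.etalePrecoverage f AddCommGrpCat.{u + 1} ≅
      EtCoh.pull f ⋙ BigSite.piEtPull Scheme.etalePrecoverage T) := by
  obtain ⟨c⟩ := BigBCLib.nonempty_pushBig_resEtAlong (f := f) (g := 𝟙 S) (g' := 𝟙 T) (f' := f)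
    (IsPullback.of_horiz_isIso ⟨by simp⟩)
  let cT : BigSite.resEtAlong Scheme.etalePrecoverage (𝟙 T) ≅ BigSite.resEt Scheme.etalePrecoverage T :=
    Functor.isoWhiskerRight ((Scheme.etalePrecoverage.toGrothendieck).overMapPullbackId AddCommGrpCat.{u + 1} T) _ ≪≫
      Functor.leftUnitor _
  let cS : BigSite.resEtAlong Scheme.etalePrecoverage (𝟙 S) ≅ BigSite.resEt Scheme.etalePrecoverage S :=
    Functor.isoWhiskerRight ((Scheme.etalePrecoverage.toGrothendieck).overMapPullbackId AddCommGrpCat.{u + 1} S) _ ≪≫
      Functor.leftUnitor _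
  let σ : BigSite.pushBig Scheme.etalePrecoverage f AddCommGrpCat.{u + 1} ⋙ BigSite.resEt Scheme.etalePrecoverage S ≅
      BigSite.resEt Scheme.etalePrecoverage T ⋙ EtCoh.push f :=
    Functor.isoWhiskerLeft _ cS.symm ≪≫ c ≪≫ Functor.isoWhiskerRight cT _
  exact ⟨Adjunction.leftAdjointUniq
    (((BigSite.piEtAdj Scheme.etalePrecoverage S).comp (BigSite.bigAdj Scheme.etalePrecoverage f _)).ofNatIsoRight σ)
    ((EtCoh.pullPushAdj f).comp (BigSite.piEtAdj Scheme.etalePrecoverage T))⟩

theorem nonempty_pullBig_piK (F : EtCoh.Ab S) :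
    Nonempty ((BigSite.pullBig K f AddCommGrpCat.{u + 1}).obj ((piK hK S).obj F) ≅
      (piK hK T).obj ((EtCoh.pull f).obj F)) := by
  obtain ⟨m⟩ := nonempty_pullBig_piEtPull f
  exact ⟨(εFF K T).preimageIso (m.app F)⟩

theorem nonempty_pushBig_piK [IsProper f] (J : EtCoh.Ab T) :
    Nonempty ((BigSite.pushBig K f AddCommGrpCat.{u + 1}).obj ((piK hK T).obj J) ≅
      (piK hK S).obj ((EtCoh.push f).obj J)) := by
  haveI := EtProperH0Lib.isIso_phi EtProperH0Lib.hasGerms_ab f J
  exact ⟨((εFF K S).preimageIso (X := (piK hK S).obj ((EtCoh.push f).obj J))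
    (Y := (BigSite.pushBig K f AddCommGrpCat.{u + 1}).obj ((piK hK T).obj J))
    (asIso (EtProperH0Lib.phi (A := AddCommGrpCat.{u + 1}) f J) :)).symm⟩

end Change

section LocallyZero

theorem isZero_εPull_R (S : Scheme.{u}) (M : BigSite.Ab K S) (q : ℕ) :
    IsZero ((εPull K S).obj (((ε K S).rightDerived (q + 1)).obj M)) := by
  haveI : (εPull K S).Additive := (BigSite.epsAdj Scheme.etalePrecoverage K S).left_adjoint_additive
  obtain ⟨e⟩ := BigEtLib.nonempty_rightDerived_baseChange (ε K S) (𝟭 (BigSite.Ab K S)) (𝟭 (BigSite.Ab K S)) (εPull K S)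
    (asIso (BigSite.epsAdj Scheme.etalePrecoverage K S).counit ≪≫ (Functor.leftUnitor _).symm) M (q + 1)
  refine IsZero.of_iso ?_ e
  let R : InjectiveResolution ((𝟭 (BigSite.Ab K S)).obj M) := injectiveResolution _
  refine IsZero.of_iso ?_ (R.isoRightDerivedObj (𝟭 (BigSite.Ab K S)) (q + 1))
  exact (ShortComplex.exact_iff_isZero_homology _).1 ((R.cocomplex_exactAt_succ q).map (𝟭 (BigSite.Ab K S)))

/-- Sections of a sheaf with zero `K`-sheafification are `K`-locally zero. -/
theorem equalizerSieve_mem {S : Scheme.{u}} (M : BigSite.Ab Scheme.etalePrecoverage S)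
    (hM : IsZero ((εPull K S).obj M)) (V : Over S) (ξ : M.obj.obj (op V)) :
    Presheaf.equalizerSieve (F := M.obj) ξ 0 ∈ QuotSh.J K S V := by
  let P := (presheafToSheaf (QuotSh.J K S) AddCommGrpCat.{u + 1}).obj M.obj
  let g : M ⟶ (ε K S).obj P := ⟨toSheafify (QuotSh.J K S) M.obj⟩
  have hg : g = 0 := by
    apply ((BigSite.epsAdj Scheme.etalePrecoverage K S).homEquiv M P).symm.injective
    exact hM.eq_of_src _ _
  have h0 : (toSheafify (QuotSh.J K S) M.obj).app (op V) ξ = 0 :=
    congrArg (fun a => a.hom.app (op V) ξ) hg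
  exact Presheaf.equalizerSieve_mem (QuotSh.J K S) (toSheafify (QuotSh.J K S) M.obj) ξ 0
    (h0.trans (map_zero _).symm)

/-- Sections of an étale sheaf vanishing on an étale covering vanish. -/
theorem eq_zero_of_cover {S : Scheme.{u}} (M : BigSite.Ab Scheme.etalePrecoverage S) {V : Over S}
    (ξ : M.obj.obj (op V)) {ι : Type u} (W : ι → Over S) (h : ∀ i, W i ⟶ V) (het : ∀ i, Etale (h i).left)
    (hs : ∀ z : V.left, ∃ i w, (h i).left w = z) (h0 : ∀ i, M.obj.map (h i).op ξ = 0) : ξ = 0 := by
  have hM : Presieve.IsSheaf (QuotSh.J Scheme.etalePrecoverage S) (M.obj ⋙ forget AddCommGrpCat.{u + 1}) :=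
    (isSheaf_iff_isSheaf_of_type _ _).1 ((Presheaf.isSheaf_iff_isSheaf_forget _ _ _).1 M.property)
  refine (hM _ (EtDescentLib.ofArrows_mem W h het hs)).isSeparatedFor.ext fun Y g hg => ?_
  obtain ⟨_, a, _, ⟨i⟩, rfl⟩ := hg
  show M.obj.map (a ≫ h i).op ξ = M.obj.map (a ≫ h i).op 0
  rw [op_comp, Functor.map_comp, ConcreteCategory.comp_apply, h0, map_zero, map_zero]

include hK in
/-- An étale sheaf with zero sheafification is zero if it injects along proper surjective morphisms. -/
theorem isZero_of_inj {S : Scheme.{u}} (M : BigSite.Ab Scheme.etalePrecoverage S) (hM : IsZero ((εPull K S).obj M))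
    (hinj : ∀ (W Z : Over S) (π : Z ⟶ W), IsAffine W.left → IsProper π.left → Surjective π.left →
      ∀ ξ : M.obj.obj (op W), M.obj.map π.op ξ = 0 → ξ = 0) : IsZero M := by
  have hzero : ∀ (V : Over S) (ξ : M.obj.obj (op V)), ξ = 0 := by
    intro V ξ
    have hmem := (GrothendieckTopology.mem_over_iff _ _).1 (equalizerSieve_mem M hM V ξ)
    have key : ∀ (X : Scheme.{u}) (R : Sieve X), R ∈ K.toGrothendieck X → ∀ (V : Over S) (g : V.left ⟶ X)
        (ξ : M.obj.obj (op V)), (∀ (W : Over S) (h : W ⟶ V), R.arrows (h.left ≫ g) → M.obj.map h.op ξ = 0) →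
          ξ = 0 := by
      intro X R hR
      induction hR with
      | of X P hP =>
        intro V g ξ hξ
        choose O hO hz _ using fun z : V.left =>
          exists_isAffineOpen_mem_and_subset (X := V.left) (x := z) (U := ⊤) trivial
        refine eq_zero_of_cover M ξ (fun z => Over.mk ((O z).ι ≫ V.hom)) (fun z => Over.homMk (O z).ι rfl)
          (fun z => inferInstanceAs (Etale (O z).ι)) (fun z => ⟨z, ⟨z, hz z⟩, rfl⟩) fun z => ?_
        haveI : IsAffine ((O z : V.left.Opens) : Scheme.{u}) := hO z
        obtain ⟨Z, π, hπ, hπs, hloc⟩ := hK.dom P hP ((O z).ι ≫ g)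
        let W : Over S := Over.mk ((O z).ι ≫ V.hom)
        let Z' : Over S := Over.mk (π ≫ W.hom)
        let π' : Z' ⟶ W := Over.homMk π rfl
        refine hinj W Z' π' (hO z) hπ hπs _ ?_
        choose B hB hG using hloc
        refine eq_zero_of_cover M _ (fun y : Z => Over.mk ((B y).ι ≫ Z'.hom)) (fun y => Over.homMk (B y).ι rfl)
          (fun y => inferInstanceAs (Etale (B y).ι)) (fun y => ⟨y, ⟨y, hB y⟩, rfl⟩) fun y => ?_
        rw [← ConcreteCategory.comp_apply, ← Functor.map_comp, ← op_comp, ← ConcreteCategory.comp_apply,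
          ← Functor.map_comp, ← op_comp]
        refine hξ _ _ ?_
        obtain ⟨i, l, hl⟩ := hG y
        refine ⟨_, l, P.preZeroHypercover.f i, ?_, ?_⟩
        · have h1 : P.preZeroHypercover.presieve₀ (P.preZeroHypercover.f i) := Presieve.ofArrows.mk i
          rwa [P.presieve₀_preZeroHypercover] at h1
        · show l ≫ P.preZeroHypercover.f i = _
          rw [hl]
          simp [π']
      | top X =>
        intro V g ξ hξ
        simpa using hξ V (𝟙 V) trivial
      | pullback X R _ Y f ih =>
        intro V g ξ hξ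
        exact ih V (g ≫ f) ξ fun W h hh => hξ W h (by
          show R.arrows ((h.left ≫ g) ≫ f)
          rwa [Category.assoc])
      | transitive X R R' _ _ ih1 ih2 =>
        intro V g ξ hξ
        refine ih1 V g ξ fun W h hh => ?_
        refine ih2 hh W (𝟙 _) _ fun W' h' hh' => ?_
        rw [← ConcreteCategory.comp_apply, ← Functor.map_comp, ← op_comp]
        refine hξ W' (h' ≫ h) ?_
        show R'.arrows ((h' ≫ h).left ≫ g)
        rw [Over.comp_left, Category.assoc]
        simpa using hh'
    refine key V.left _ hmem V (𝟙 _) ξ fun W h hh => ?_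
    rw [Category.comp_id] at hh
    have h2 : Presheaf.equalizerSieve (F := M.obj) ξ 0 h := by
      have h3 := (Sieve.overEquiv_iff _ _).1 hh
      let c : W ⟶ Over.mk (h.left ≫ V.hom) := Over.homMk (𝟙 _) (by simp)
      have hc : c ≫ Over.homMk h.left rfl = h := Over.OverMorphism.ext (Category.id_comp _)
      exact hc ▸ Sieve.downward_closed _ h3 c
    exact h2.trans (map_zero _)
  rw [IsZero.iff_id_eq_zero]
  apply Sheaf.hom_ext
  exact NatTrans.ext (funext fun V => AddCommGrpCat.ext fun ξ => (hzero V.unop ξ).trans (hzero V.unop _).symm)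

end LocallyZero

end HTopCmp

end
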